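import Cfsg.Agent.UFiveType.CentA
import Cfsg.Agent.BenderSE.Dependents.FourConnected
import Cfsg.Agent.BenderSE.Criterion2.Criterion

/-!
# The cores are trivial

The cores of the centralisers form a solvable signalizer functor on `E`; a non-trivial completion would have a
strongly embedded normaliser, and there are two classes of involutions.
-/

set_option autoImplicit false
set_option linter.style.haveILetI false
set_option linter.unusedSectionVars false
set_option synthInstance.maxSize 1024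
set_option maxRecDepth 100000

namespace Cfsg.Lib.UFiveType

open Subgroup
open Cfsg.Lib.Walter (Oc)
open Cfsg.Lib.GW (Core core_le le_normalizer_core)
open Cfsg.Lib.Coprime (le_normalizer_sup le_normalizer_inf)

universe u

variable {G : Type u} [Group G] [Finite G] {φ : Mdl →* G}

theorem pair_perm : ∀ i j : Fin 5, i ≠ j →
    ∃ σ : Equiv.Perm (Fin 5), Equiv.Perm.sign σ = 1 ∧ σ 3 = i ∧ σ 4 = j := by decide +kernel

theorem one_perm : ∀ i : Fin 5, ∃ σ : Equiv.Perm (Fin 5), Equiv.Perm.sign σ = 1 ∧ σ 0 = i := by decide +kernel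

theorem four_not_five : ∀ k : Fin 3, ∀ i : Fin 5, sgM 0 * aR k ≠ sgM i := by decide +kernel

theorem fourM_mul : ∀ k : Fin 3, ∀ i j : Fin 4, ∃ l : Fin 4,
    ![1, sgM 0, aR k, sgM 0 * aR k] i * ![1, sgM 0, aR k, sgM 0 * aR k] j =
      ![1, sgM 0, aR k, sgM 0 * aR k] l := by decide +kernel

theorem fourM_facts : ∀ k : Fin 3, ∀ i : Fin 4, eP (![1, sgM 0, aR k, sgM 0 * aR k] i) ∧
    ![1, sgM 0, aR k, sgM 0 * aR k] i * bR k = bR k * ![1, sgM 0, aR k, sgM 0 * aR k] i := by decide +kernel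

theorem fourM_inj : ∀ k : Fin 3, ∀ i j : Fin 4,
    ![1, sgM 0, aR k, sgM 0 * aR k] i = ![1, sgM 0, aR k, sgM 0 * aR k] j → i = j := by decide +kernel

/-- The four-group spanned by the centre and a representative. -/
def fourM (k : Fin 3) : Subgroup Mdl where
  carrier := {m | ∃ i : Fin 4, m = ![1, sgM 0, aR k, sgM 0 * aR k] i}
  one_mem' := ⟨0, rfl⟩
  mul_mem' := by
    rintro _ _ ⟨i, rfl⟩ ⟨j, rfl⟩
    exact fourM_mul k i j
  inv_mem' := by
    rintro _ ⟨i, rfl⟩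
    exact ⟨i, inv_eq_of_mul_eq_one_right (eP_sq _ (fourM_facts k i).1)⟩

theorem fourM_le {k : Fin 3} {m : Mdl} (hm : m ∈ fourM k) : eP m ∧ m * bR k = bR k * m := by
  obtain ⟨i, rfl⟩ := hm
  exact fourM_facts k i

theorem fourM_cases {k : Fin 3} {m : Mdl} (hm : m ∈ fourM k) :
    m = 1 ∨ m = sgM 0 ∨ m = aR k ∨ m = sgM 0 * aR k := by
  obtain ⟨i, rfl⟩ := hm
  fin_cases i <;> simp

namespace Frame

variable (h : Frame φ) [IsSimpleGroup G]
include h

/-- An element of `E` is conjugate to one of the two representatives by an element normalising `E`. -/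
theorem reach {e : G} (he : e ∈ eU φ) (h1 : e ≠ 1) :
    ∃ n ∈ normalizer (eU φ : Set G), n * zU φ * n⁻¹ = e ∨ n * aU φ * n⁻¹ = e := by
  obtain ⟨m, hm, rfl⟩ := he
  rcases eP_cases m hm with rfl | ⟨i, rfl⟩ | ⟨i, j, hij, rfl⟩
  · exact absurd (map_one φ) h1
  · obtain ⟨σ, hσ, rfl⟩ := one_perm i
    obtain ⟨n, hn, hne⟩ := h.five_onto σ hσ
    exact ⟨n, hn, Or.inl (hne 0)⟩
  · obtain ⟨σ, hσ, rfl, rfl⟩ := pair_perm i j hij.ne
    obtain ⟨n, hn, hne⟩ := h.five_onto σ hσ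
    refine ⟨n, hn, Or.inr ?_⟩
    rw [aU, aR_pair.1, map_mul, map_mul]
    show n * (sgU φ 3 * sgU φ 4) * n⁻¹ = sgU φ (σ 3) * sgU φ (σ 4)
    rw [← hne, ← hne]
    group

/-- The centraliser of an element of `E` of the second class. -/
theorem cent_e {e : G} (he : e ∈ eU φ) (h1 : e ≠ 1) (hz : ¬ IsConj (zU φ) e) {g : G} (hg : Commute g e) :
    ∃ o ∈ Oc e, o * g ∈ normalizer (eU φ : Set G) := by
  obtain ⟨n, hn, hne | hne⟩ := h.reach he h1
  · exact absurd (isConj_iff.2 ⟨n, hne⟩) hz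
  subst hne
  obtain ⟨o, ho, hon⟩ := h.cent_a (g := n⁻¹ * g * n) (by
    have := hg.map (MulAut.conj n⁻¹).toMonoidHom
    simpa [mul_assoc] using this)
  refine ⟨n * o * n⁻¹, Walter.R3.conj_mem_oc ho, ?_⟩
  have h2 := mul_mem (mul_mem hn hon) (inv_mem hn)
  convert h2 using 1
  group

theorem bal_z {f : G} (hf : f ∈ eU φ) {x : G} (hx : x ∈ Oc f) (hxz : Commute x (zU φ)) : x ∈ Oc (zU φ) := by
  refine h.le_core_z (X := Oc f ⊓ cU φ) (D := qM ⊓ rM) inf_le_left (fun q hq hall => ?_) inf_le_right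
    ((h.odd_oc f).of_dvd_nat (card_dvd_of_le inf_le_left)) ?_ ⟨hx, mem_centralizer_singleton_iff.2 hxz.eq⟩
  · obtain ⟨h1, h2⟩ := qr_self q hq fun d hd => hall _ ⟨show d.val % 1024 < 128 by omega, hd⟩
    exact ⟨⟨hq, h1⟩, h2⟩
  · rintro _ ⟨d, hd, rfl⟩
    have hdf : φ d ∈ centralizer ({f} : Set G) :=
      mem_centralizer_singleton_iff.2 ((mem_centralizer_iff.1 (h.rU_le (mem_map_of_mem φ hd.2)) f hf).symm)
    exact le_normalizer_inf (H := zpowers (φ d)) (zpowers_le.2 (Walter.R3.oc_norm f hdf))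
      (zpowers_le.2 (le_normalizer (h.range_le_cU ⟨d, rfl⟩))) (mem_zpowers _)

theorem bal_a {f : G} (hf : f ∈ eU φ) {x : G} (hx : x ∈ Oc f) (hxa : Commute x (aU φ)) : x ∈ Oc (aU φ) := by
  set X := Oc f ⊓ centralizer ({aU φ} : Set G)
  set O := Oc (aU φ)
  set Y := X ⊔ O
  set K := centralizer (eU φ : Set G)
  have hXa : X ≤ normalizer (O : Set G) := inf_le_right.trans (Walter.R3.oc_norm _)
  have hYodd : Odd (Nat.card Y) :=
    odd_sup ((h.odd_oc f).of_dvd_nat (card_dvd_of_le inf_le_left)) (h.odd_oc _) hXa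
  have hKY : K ≤ normalizer (Y : Set G) := by
    have hKf : K ≤ centralizer ({f} : Set G) := centralizer_le (Set.singleton_subset_iff.2 hf)
    have hKa : K ≤ centralizer ({aU φ} : Set G) := centralizer_le (Set.singleton_subset_iff.2 (h.aR_mem 0))
    exact le_normalizer_sup (le_normalizer_inf (hKf.trans (Walter.R3.oc_norm f)) (hKa.trans le_normalizer))
      (hKa.trans (Walter.R3.oc_norm _))
  have hEK : eU φ ≤ K := fun w hw => mem_centralizer_iff.2 fun v hv => h.eU_comm hv hw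
  obtain ⟨o, ho, hm⟩ := h.cent_a hxa
  have hxY : x ∈ Y := mem_sup_left ⟨hx, mem_centralizer_singleton_iff.2 hxa.eq⟩
  have hmY : o * x ∈ Y := mul_mem (mem_sup_right ho) hxY
  have hmK : o * x ∈ K := mem_centralizer_iff.2 fun e he => by
    have h1 : o * x * e * (o * x)⁻¹ * e⁻¹ ∈ eU φ :=
      mul_mem ((mem_normalizer_iff.1 hm e).1 he) (inv_mem he)
    have h2 : o * x * e * (o * x)⁻¹ * e⁻¹ ∈ Y := by
      rw [show o * x * e * (o * x)⁻¹ * e⁻¹ = o * x * (e * (o * x)⁻¹ * e⁻¹) by group]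
      exact mul_mem hmY ((mem_normalizer_iff.1 (hKY (hEK he)) _).1 (inv_mem hmY))
    exact (mul_inv_eq_iff_eq_mul.1 (mul_inv_eq_one.1 (h.eq_one_of_mem_eU hYodd h1 h2))).symm
  have hM : Y ⊓ K ≤ Core K := Walter.R3.le_core inf_le_right (le_normalizer_inf hKY le_normalizer)
    (hYodd.of_dvd_nat (card_dvd_of_le inf_le_left))
  have hKa : Core K ≤ centralizer ({aU φ} : Set G) :=
    (core_le K).trans (centralizer_le (Set.singleton_subset_iff.2 (h.aR_mem 0)))
  have hle : Core K ⊔ O ≤ O := by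
    refine Walter.R3.le_oc (sup_le hKa (Cfsg.Lib.Components.centralizerPPrimeCore_le_centralizer _))
      (fun g hg => ?_) (odd_sup (Cfsg.Lib.GW.Frame.odd_card_core K) (h.odd_oc _)
        (hKa.trans (Walter.R3.oc_norm _)))
    have hga : Commute g (aU φ) := mem_centralizer_singleton_iff.1 hg
    obtain ⟨o', ho', hn⟩ := h.cent_a hga
    have hna : o' * g ∈ centralizer ({aU φ} : Set G) :=
      mem_centralizer_singleton_iff.2 ((Walter.R3.oc_comm ho').mul_left hga).eq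
    have hnK : o' * g ∈ normalizer (Core K : Set G) := conj_core fun d hd => mem_centralizer_iff.2 fun e he => by
      have he' : (o' * g)⁻¹ * e * (o' * g) ∈ eU φ := (mem_normalizer_iff''.1 hn e).1 he
      have hc := mem_centralizer_iff.1 hd _ he'
      calc e * (o' * g * d * (o' * g)⁻¹) = o' * g * ((o' * g)⁻¹ * e * (o' * g) * d) * (o' * g)⁻¹ := by group
        _ = o' * g * (d * ((o' * g)⁻¹ * e * (o' * g))) * (o' * g)⁻¹ := by rw [hc]
        _ = _ := by group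
    have h1 : o' * g ∈ normalizer ((Core K ⊔ O : Subgroup G) : Set G) :=
      le_normalizer_sup (H := zpowers (o' * g)) (zpowers_le.2 hnK) (zpowers_le.2 (Walter.R3.oc_norm _ hna))
        (mem_zpowers _)
    exact ((normalizer ((Core K ⊔ O : Subgroup G) : Set G)).mul_mem_cancel_left
      (le_normalizer (mem_sup_right ho'))).1 h1
  have h3 : o * x ∈ O := hle (mem_sup_left (hM ⟨hmY, hmK⟩))
  exact (mul_mem_cancel_left ho).1 h3

/-- The functor is balanced on `E`. -/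
theorem bal_E {e f : G} (he : e ∈ eU φ) (hf : f ∈ eU φ) (he1 : e ≠ 1) {x : G} (hx : x ∈ Oc f)
    (hxe : Commute x e) : x ∈ Oc e := by
  obtain ⟨n, hn, hne⟩ := h.reach he he1
  have hf' : n⁻¹ * f * n ∈ eU φ := (mem_normalizer_iff''.1 hn f).1 hf
  have hx' : n⁻¹ * x * n ∈ Oc (n⁻¹ * f * n) := by
    have := Walter.R3.conj_mem_oc (g := n⁻¹) hx
    rwa [inv_inv] at this
  have hc : ∀ w, n * w * n⁻¹ = e → Commute (n⁻¹ * x * n) w := fun w hw => by
    have := hxe.map (MulAut.conj n⁻¹).toMonoidHom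
    rw [← hw] at this
    simpa [mul_assoc] using this
  have back : ∀ w, n * w * n⁻¹ = e → n⁻¹ * x * n ∈ Oc w → x ∈ Oc e := fun w hw hmem => by
    have := Walter.R3.conj_mem_oc (g := n) hmem
    rwa [hw, show n * (n⁻¹ * x * n) * n⁻¹ = x by group] at this
  rcases hne with e' | e'
  · exact back _ e' (h.bal_z hf' hx' (hc _ e'))
  · exact back _ e' (h.bal_a hf' hx' (hc _ e'))

theorem bal_bz (k : Fin 3) {x : G} (hx : x ∈ Oc (φ (bR k))) (hxz : Commute x (zU φ)) : x ∈ Oc (zU φ) := by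
  refine h.le_core_z (X := Oc (φ (bR k)) ⊓ cU φ) (D := qM ⊓ centralizer ({bR k} : Set Mdl)) inf_le_left
    (fun q hq hall => ?_) inf_le_right ((h.odd_oc _).of_dvd_nat (card_dvd_of_le inf_le_left)) ?_
    ⟨hx, mem_centralizer_singleton_iff.2 hxz.eq⟩
  · obtain ⟨h1, h2⟩ := bq_self q hq k fun d hd =>
      hall _ ⟨show d.val % 1024 < 128 by omega, mem_centralizer_singleton_iff.2 hd⟩
    exact ⟨⟨hq, mem_centralizer_singleton_iff.2 h1⟩, h2⟩
  · rintro _ ⟨d, hd, rfl⟩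
    have hdb : φ d ∈ centralizer ({φ (bR k)} : Set G) :=
      mem_centralizer_singleton_iff.2 (by rw [← map_mul, ← map_mul, mem_centralizer_singleton_iff.1 hd.2])
    exact le_normalizer_inf (H := zpowers (φ d)) (zpowers_le.2 (Walter.R3.oc_norm _ hdb))
      (zpowers_le.2 (le_normalizer (h.range_le_cU ⟨d, rfl⟩))) (mem_zpowers _)

theorem bal_b (k : Fin 3) {e : G} (he : e ∈ eU φ) (h1 : e ≠ 1) (hz : ¬ IsConj (zU φ) e)
    (heb : Commute e (φ (bR k))) {x : G} (hx : x ∈ Oc (φ (bR k))) (hxe : Commute x e) : x ∈ Oc e := by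
  set X := Oc (φ (bR k)) ⊓ centralizer ({e} : Set G)
  set O := Oc e
  set z := zU φ
  have hXO : X ≤ normalizer (O : Set G) := inf_le_right.trans (Walter.R3.oc_norm e)
  have hXodd : Odd (Nat.card X) := (h.odd_oc _).of_dvd_nat (card_dvd_of_le inf_le_left)
  have hze : z ∈ centralizer ({e} : Set G) := mem_centralizer_singleton_iff.2 (h.eU_comm (h.sgU_mem 0) he)
  have hzb : z ∈ centralizer ({φ (bR k)} : Set G) := mem_centralizer_singleton_iff.2 (by
    show φ (sgM 0) * φ (bR k) = φ (bR k) * φ (sgM 0)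
    rw [← map_mul, ← map_mul, mdl_center (sgM 0) _ rfl])
  have hzX : z ∈ normalizer (X : Set G) :=
    le_normalizer_inf (H := zpowers z) (zpowers_le.2 (Walter.R3.oc_norm _ hzb))
      (zpowers_le.2 (le_normalizer hze)) (mem_zpowers _)
  have hzY : z ∈ normalizer ((X ⊔ O : Subgroup G) : Set G) :=
    le_normalizer_sup (H := zpowers z) (zpowers_le.2 hzX) (zpowers_le.2 (Walter.R3.oc_norm e hze)) (mem_zpowers _)
  have hxX : x ∈ X := ⟨hx, mem_centralizer_singleton_iff.2 hxe.eq⟩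
  obtain ⟨o, ho, hm⟩ := h.cent_e he h1 hz hxe
  set m := o * x
  have hmY : m ∈ X ⊔ O := mul_mem (mem_sup_right ho) (mem_sup_left hxX)
  have hmz : m * z * m⁻¹ = z := by
    refine mul_inv_eq_one.1 (h.eq_one_of_mem_eU (odd_sup hXodd (h.odd_oc e) hXO)
      (mul_mem ((mem_normalizer_iff.1 hm z).1 (h.sgU_mem 0)) (inv_mem (h.sgU_mem 0))) ?_)
    rw [show m * z * m⁻¹ * z⁻¹ = m * (z * m⁻¹ * z⁻¹) by group]
    exact mul_mem hmY ((mem_normalizer_iff.1 hzY _).1 (inv_mem hmY))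
  have hmO : m ∈ normalizer (O : Set G) :=
    Walter.R3.oc_norm e (mem_centralizer_singleton_iff.2 ((Walter.R3.oc_comm ho).mul_left hxe).eq)
  have hk : x⁻¹ * z * x * z⁻¹ ∈ X ⊓ O := by
    refine ⟨?_, ?_⟩
    · rw [show x⁻¹ * z * x * z⁻¹ = x⁻¹ * (z * x * z⁻¹) by group]
      exact X.mul_mem (X.inv_mem hxX) ((mem_normalizer_iff.1 hzX _).1 hxX)
    · have e2 : x⁻¹ * z * x * z⁻¹ = m⁻¹ * (o * (z * o⁻¹ * z⁻¹)) * m := by
        have hmz' : m * z = z * m := mul_inv_eq_iff_eq_mul.1 hmz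
        calc x⁻¹ * z * x * z⁻¹ = m⁻¹ * o * z * o⁻¹ * (m * z⁻¹) := by simp only [m]; group
          _ = m⁻¹ * o * z * o⁻¹ * (z⁻¹ * m) := by
            rw [(show Commute m z from hmz').inv_right.eq]
          _ = _ := by group
      rw [e2]
      exact (mem_normalizer_iff''.1 hmO _).1 (mul_mem ho ((mem_normalizer_iff.1
        (Walter.R3.oc_norm e hze) _).1 (inv_mem ho)))
  obtain ⟨d, hd, hc⟩ := Walter.R3.exists_commute_mul (a := z) (h.eU_sq (h.sgU_mem 0))
    (D := X ⊓ O) (hXodd.of_dvd_nat (card_dvd_of_le inf_le_left))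
    (fun d hd => ⟨(mem_normalizer_iff.1 hzX d).1 hd.1, (mem_normalizer_iff.1 (Walter.R3.oc_norm e hze) d).1 hd.2⟩) hk
  have hxd : x * d ∈ X := mul_mem hxX hd.1
  have h3 : x * d ∈ Oc e :=
    h.bal_E he (h.sgU_mem 0) h1 (h.bal_bz k hxd.1 hc) (mem_centralizer_singleton_iff.1 hxd.2)
  exact (O.mul_mem_cancel_right hd.2).1 h3

/-- A subgroup of odd order normalised by a four-group is generated by its fixed points. -/
theorem le_of_four (k : Fin 3) {X Y : Subgroup G} (hX : Odd (Nat.card X))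
    (hn : ∀ m ∈ fourM k, φ m ∈ normalizer (X : Set G))
    (hsub : ∀ m ∈ fourM k, m ≠ 1 → X ⊓ centralizer ({φ m} : Set G) ≤ Y) : X ≤ Y := by
  set A := (fourM k).map φ
  haveI : IsMulCommutative A := ⟨⟨fun v w => Subtype.ext (by
    obtain ⟨_, p, hp, rfl⟩ := v
    obtain ⟨_, q, hq, rfl⟩ := w
    show φ p * φ q = φ q * φ p
    rw [← map_mul, ← map_mul, eP_comm p (fourM_le hp).1 q (fourM_le hq).1])⟩⟩
  have h4 : 4 ≤ Nat.card A := by
    rw [h.card_map_eq]
    have hinj : Function.Injective fun i : Fin 4 =>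
        (⟨![1, sgM 0, aR k, sgM 0 * aR k] i, i, rfl⟩ : fourM k) := by
      intro i j e
      exact fourM_inj k i j (congrArg Subtype.val e)
    calc 4 = Nat.card (Fin 4) := (Nat.card_fin 4).symm
      _ ≤ Nat.card (fourM k) := Nat.card_le_card_of_injective _ hinj
  have hA2 : ∀ w ∈ A, w ^ 2 = 1 := by
    rintro _ ⟨p, hp, rfl⟩
    rw [pow_two, ← map_mul, eP_sq p (fourM_le hp).1, map_one]
  have hcyc : ¬ IsCyclic A := fun hc => by
    have h1 : Nat.card A ∣ 2 := hc.exponent_eq_card ▸ Monoid.exponent_dvd_of_forall_pow_eq_one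
      fun w => Subtype.ext (hA2 w w.2)
    have := Nat.le_of_dvd (by norm_num) h1
    omega
  have hp : IsPGroup 2 A := fun w => ⟨1, Subtype.ext (by simpa using hA2 w w.2)⟩
  obtain ⟨j, hj⟩ := IsPGroup.iff_card.1 hp
  rw [← Cfsg.Lib.Coprime.centralizerJoin_eq hcyc (A := A) (K := X) (by rintro _ ⟨p, hp, rfl⟩; exact hn p hp)
    (by rw [hj]; exact (Nat.coprime_two_left.2 hX).pow_left j)]
  refine iSup₂_le fun w hw => ?_
  obtain ⟨⟨p, hp, rfl⟩, hp1⟩ := hw
  exact hsub p hp fun e => hp1 (by rw [e, map_one])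

/-- The completion of the functor. -/
def wU (φ : Mdl →* G) : Subgroup G := ⨆ e : {e : G // e ∈ eU φ ∧ e ≠ 1}, Oc e.1

omit h [IsSimpleGroup G] in
theorem oc_le_wU {e : G} (he : e ∈ eU φ) (h1 : e ≠ 1) : Oc e ≤ wU φ :=
  le_iSup (fun e : {e : G // e ∈ eU φ ∧ e ≠ 1} => Oc e.1) ⟨e, he, h1⟩

theorem wU_member : Odd (Nat.card (wU φ)) ∧
    ∀ e ∈ eU φ, e ≠ 1 → wU φ ⊓ centralizer ({e} : Set G) ≤ Oc e := by
  haveI : Fact (Nat.Prime 2) := ⟨Nat.prime_two⟩
  have hE : Cfsg.IsElementaryAbelian 2 (eU φ) :=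
    ⟨⟨⟨fun a b => Subtype.ext (h.eU_comm a.2 b.2)⟩⟩, fun a ha => by rw [pow_two]; exact h.eU_sq ha⟩
  have hfc := fun a : G => Cfsg.Lib.BenderSE.FourConn.functor_conditions
    (fun Y hY => Cfsg.Agent.PF.isSolvable_of_odd Y hY) (G := G) a
  have hθ : Cfsg.IsSolvableSignalizerFunctor 2 (eU φ) fun e => Oc e := by
    refine ⟨⟨fun a _ _ => (hfc a).1, fun a _ _ => (hfc a).2.1, fun a ha _ b hb x hx => ?_,
      fun a ha _ b hb hb1 x hx => ?_⟩, fun a _ _ => (hfc a).2.2⟩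
    · exact (mem_normalizer_iff.1 (Walter.R3.oc_norm a
        (mem_centralizer_singleton_iff.2 (h.eU_comm hb ha))) x).1 hx
    · exact h.bal_E hb ha hb1 hx.1 (mem_centralizer_singleton_iff.1 hx.2)
  obtain ⟨U, hU, hle⟩ := Cfsg.Lib.Sft.exists_member (p := 2) hE (by rw [h.card_eU]; norm_num) hθ
  have hWU : wU φ ≤ U := iSup_le fun e => hle e.1 e.2.1 e.2.2
  refine ⟨?_, fun e he h1 => (inf_le_inf_right _ hWU).trans (hU.2.2.2 e he h1)⟩
  refine Nat.not_even_iff_odd.mp fun hev => hU.2.1 ((even_iff_two_dvd.mp hev).trans ?_)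
  exact card_dvd_of_le hWU

theorem norm_le_normW : normalizer (eU φ : Set G) ≤ normalizer (wU φ : Set G) := by
  intro n hn
  refine ZStarApps.mem_normalizer_of_maps fun x hx => ?_
  have hle : wU φ ≤ (wU φ).comap (MulAut.conj n).toMonoidHom := iSup_le fun e y hy => by
    show n * y * n⁻¹ ∈ wU φ
    exact oc_le_wU ((mem_normalizer_iff.1 hn e.1).1 e.2.1) (fun e' => e.2.2 (conj_eq_one_iff.1 e'))
      (Walter.R3.conj_mem_oc hy)
  exact hle hx

theorem four_sub {m : Mdl} {k : Fin 3} (hm : m ∈ fourM k) (hm1 : m ≠ 1) :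
    φ m ∈ eU φ ∧ φ m ≠ 1 ∧ (φ m = zU φ ∨ ¬ IsConj (zU φ) (φ m)) := by
  refine ⟨mem_map_of_mem φ (fourM_le hm).1, fun e => hm1 (h.inj (e.trans (map_one φ).symm)), ?_⟩
  rcases fourM_cases hm with e | e | e | e
  · exact absurd e hm1
  · exact Or.inl (by rw [e]; rfl)
  · exact Or.inr (e ▸ h.aR_not_conj k)
  · refine Or.inr fun hc => ?_
    obtain ⟨i, hi⟩ := h.five_of_conj_mem (fourM_le hm).1 hc
    exact four_not_five k i (e.symm.trans hi)

theorem oc_bR_le (k : Fin 3) : Oc (φ (bR k)) ≤ wU φ := by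
  refine h.le_of_four k (h.odd_oc _) (fun m hm => Walter.R3.oc_norm _ (mem_centralizer_singleton_iff.2 (by
    rw [← map_mul, ← map_mul, (fourM_le hm).2]))) fun m hm hm1 x hx => ?_
  obtain ⟨he, he1, hz⟩ := h.four_sub hm hm1
  have hxm : Commute x (φ m) := mem_centralizer_singleton_iff.1 hx.2
  refine oc_le_wU he he1 ?_
  rcases hz with hz | hz
  · rw [hz] at hxm ⊢
    exact h.bal_bz k hx.1 hxm
  · exact h.bal_b k he he1 hz (show Commute (φ m) (φ (bR k)) from (show Commute m (bR k) from (fourM_le hm).2).map φ)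
      hx.1 hxm

/-- The core of an involution of `Q` lies in the completion. -/
theorem oc_q_le {q : Mdl} (hq : qP q) (hq2 : q * q = 1) (hq1 : q ≠ 1) : Oc (φ q) ≤ wU φ := by
  have hne : φ q ≠ 1 := fun e => hq1 (h.inj (e.trans (map_one φ).symm))
  by_cases hqE : eP q
  · exact oc_le_wU (mem_map_of_mem φ hqE) hne
  rcases invol_class q hq2 with e | e | ⟨i, w, rfl⟩
  · exact absurd e hq1
  · exact absurd (e ▸ sgM_eP 0) hqE
  rcases rep_qP i ((qP_conj_iff _).1 hq) with ⟨l, e⟩ | ⟨l, e⟩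
  · exact absurd (eP_normal _ (e ▸ (aR_facts l).2.1) _) hqE
  intro x hx
  rw [e, map_mul, map_mul, map_inv] at hx
  set c := φ (conjW w)
  have h1 := h.oc_bR_le l (Walter.R3.conj_mem_oc_iff.1
    (show c * (c⁻¹ * x * c) * c⁻¹ ∈ Oc (c * φ (bR l) * c⁻¹) by
      rwa [show c * (c⁻¹ * x * c) * c⁻¹ = x by group]))
  have hcW : c ∈ normalizer (wU φ : Set G) := h.norm_le_normW (h.range_le_norm ⟨_, rfl⟩)
  exact (mem_normalizer_iff''.1 hcW x).2 h1

theorem oc_conj_le {c : G} (hc : c ∈ cU φ) {q : Mdl} (hq : qP q) (hq2 : q * q = 1) (hq1 : q ≠ 1) :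
    Oc (c * φ q * c⁻¹) ≤ wU φ := by
  obtain ⟨q', hq', hmem⟩ := h.q_mod hc hq
  set y := c * φ q * c⁻¹
  have hy : orderOf y = 2 := (MulEquiv.orderOf_eq (MulAut.conj c) (φ q)).trans (h.order_two hq2 hq1)
  have hyC : y ∈ cU φ := mul_mem (mul_mem hc (h.range_le_cU ⟨_, rfl⟩)) (inv_mem hc)
  have hn := Walter.R3.oc_norm (zU φ)
  set o₁ := (φ q')⁻¹ * y
  have hq'2 : q' * q' = 1 := h.inj (by
    rw [map_one]
    refine eq_one_of_two h.isPGroup (h.odd_oc (zU φ)) ⟨_, rfl⟩ ?_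
    have e : φ (q' * q') = y * o₁⁻¹ * y⁻¹ * o₁⁻¹ := by
      rw [map_mul, InvolCalc.inv_of_order_two hy]
      calc φ q' * φ q' = y * o₁⁻¹ * (y * o₁⁻¹) := by simp only [o₁]; group
        _ = _ := by group
    rw [e]
    exact mul_mem ((mem_normalizer_iff.1 (hn hyC) _).1 (inv_mem hmem)) (inv_mem hmem))
  have hq'1 : q' ≠ 1 := fun e => by
    simp only [o₁, e, map_one, inv_one, one_mul] at hmem
    have := (h.odd_oc (zU φ)).of_dvd_nat (Subgroup.orderOf_dvd_natCard _ hmem)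
    rw [hy] at this
    exact absurd this (by decide)
  obtain ⟨o, ho, he⟩ := conj_of_mod (h.odd_oc _) (h.order_two hq'2 hq'1) hy
    (show φ q' * y ∈ Oc (zU φ) by
      rw [show φ q' * y = o₁ by rw [← InvolCalc.inv_of_order_two (h.order_two hq'2 hq'1)]]
      exact hmem)
  intro x hx
  rw [← he, show x = o * (o⁻¹ * x * o) * o⁻¹ by group, Walter.R3.conj_mem_oc_iff] at hx
  have hoW : o ∈ wU φ := oc_le_wU (h.sgU_mem 0) (fun e => (sgM_qP 0).2.2 (h.inj (e.trans (map_one φ).symm))) ho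
  have h2 := mul_mem (mul_mem hoW (h.oc_q_le hq' hq'2 hq'1 hx)) (inv_mem hoW)
  rwa [show o * (o⁻¹ * x * o) * o⁻¹ = x by group] at h2

theorem cU_le_normW : cU φ ≤ normalizer (wU φ : Set G) := by
  intro c hc
  refine ZStarApps.mem_normalizer_of_maps fun x hx => ?_
  obtain ⟨hodd, hmem⟩ := h.wU_member
  have hle : wU φ ≤ (wU φ).comap (MulAut.conj c).toMonoidHom := by
    refine h.le_of_four 0 hodd (fun m hm => h.norm_le_normW
      (h.range_le_norm ⟨m, rfl⟩)) fun m hm hm1 y hy => ?_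
    obtain ⟨he, he1, -⟩ := h.four_sub hm hm1
    have hq : qP m := by
      rcases fourM_cases hm with rfl | rfl | rfl | rfl
      exacts [qP_one, (sgM_qP 0).1.2 rfl, (aR_facts 0).1, qP_mul _ ((sgM_qP 0).1.2 rfl) _ (aR_facts 0).1]
    exact h.oc_conj_le hc hq (eP_sq _ (fourM_le hm).1) hm1 (Walter.R3.conj_mem_oc (hmem _ he he1 hy))
  exact hle hx

/-- **The completion is trivial.** -/
theorem wU_eq_bot : wU φ = ⊥ := by
  haveI : Fact (Nat.Prime 2) := ⟨Nat.prime_two⟩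
  by_contra hW
  obtain ⟨hodd, hmem⟩ := h.wU_member
  set M := normalizer (wU φ : Set G)
  have hzo : orderOf (zU φ) = 2 := h.order_two (eP_sq _ (sgM_eP 0)) (sgM_qP 0).2.2
  have hNM := h.norm_le_normW
  have hCM := h.cU_le_normW
  have hSM : φ.range ≤ M := h.range_le_cU.trans hCM
  have hM : M ≠ ⊤ := by
    intro e
    haveI : (wU φ).Normal := normalizer_eq_top_iff.1 e
    rcases IsSimpleGroup.eq_bot_or_eq_top_of_normal (wU φ) inferInstance with e' | e'
    · exact hW e'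
    · rw [e', Subgroup.card_top] at hodd
      exact Nat.not_even_iff_odd.2 hodd (even_iff_two_dvd.2 (hzo ▸ orderOf_dvd_natCard _))
  obtain ⟨S, hS⟩ := h.sylow
  have h1 : ∃ S : Sylow 2 G, zU φ ∈ S ∧ ∀ s ∈ S, Commute s (zU φ) := by
    refine ⟨S, show zU φ ∈ (S : Subgroup G) from hS ▸ ⟨sgM 0, rfl⟩, fun s hs => ?_⟩
    have hs' : s ∈ φ.range := hS ▸ hs
    exact mem_centralizer_singleton_iff.1 (h.range_le_cU hs')
  have pgroup_zpowers : ∀ {w : G}, orderOf w = 2 → IsPGroup 2 (zpowers w) := fun hw =>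
    IsPGroup.of_card (n := 1) (by rw [Nat.card_zpowers, hw, pow_one])
  have h2 : ∀ g : G, g * zU φ * g⁻¹ ∈ M → g ∈ M := by
    intro g hg
    obtain ⟨c, hc, hcv⟩ := h.into_range
      (pgroup_zpowers ((MulEquiv.orderOf_eq (MulAut.conj g) (zU φ)).trans hzo)) (zpowers_le.2 hg) hSM
    obtain ⟨m, hm⟩ := hcv _ (mem_zpowers _)
    have hm' : φ m = c * g * zU φ * (c * g)⁻¹ := by rw [hm]; simp only [MulAut.conj_apply]; group
    obtain ⟨i, rfl⟩ := h.five_only (isConj_iff.2 ⟨c * g, hm'.symm⟩)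
    obtain ⟨σ, hσ, rfl⟩ := one_perm i
    obtain ⟨n, hn, hne⟩ := h.five_onto σ hσ
    have e : n⁻¹ * (c * g) * zU φ * (n⁻¹ * (c * g))⁻¹ = zU φ := by
      rw [show n⁻¹ * (c * g) * zU φ * (n⁻¹ * (c * g))⁻¹ = n⁻¹ * (c * g * zU φ * (c * g)⁻¹) * n by group,
        ← hm', show φ (sgM (σ 0)) = sgU φ (σ 0) from rfl, ← hne 0]
      show n⁻¹ * (n * zU φ * n⁻¹) * n = zU φ
      group
    have h3 : n⁻¹ * (c * g) ∈ M := hCM (mem_centralizer_singleton_iff.2 (mul_inv_eq_iff_eq_mul.1 e))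
    exact (M.mul_mem_cancel_left hc).1 ((M.mul_mem_cancel_left (inv_mem (hNM hn))).1 h3)
  have h3 : ∀ g : G, Commute (zU φ) (g * zU φ * g⁻¹) → g * zU φ * g⁻¹ ≠ zU φ →
      centralizer ({zU φ * (g * zU φ * g⁻¹)} : Set G) ≤ M := by
    intro g hcm hne
    set y := g * zU φ * g⁻¹
    have hy : orderOf y = 2 := (MulEquiv.orderOf_eq (MulAut.conj g) (zU φ)).trans hzo
    have hV : IsPGroup 2 ↥(zpowers (zU φ) ⊔ zpowers y) := by
      refine (pgroup_zpowers hzo).to_sup_of_normal_left' (pgroup_zpowers hy) (zpowers_le.2 ?_)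
      refine ZStarApps.mem_normalizer_of_maps fun w hw => ?_
      obtain ⟨i, rfl⟩ := mem_zpowers_iff.1 hw
      rw [(hcm.symm.zpow_right i).eq, mul_inv_cancel_right]
      exact zpow_mem (mem_zpowers _) i
    obtain ⟨c, hc, hcv⟩ := h.into_range hV (H := cU φ)
      (sup_le (zpowers_le.2 (mem_centralizer_singleton_iff.2 rfl))
        (zpowers_le.2 (mem_centralizer_singleton_iff.2 hcm.symm.eq))) h.range_le_cU
    obtain ⟨m, hm⟩ := hcv y (mem_sup_right (mem_zpowers _))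
    have hcz : c * zU φ * c⁻¹ = zU φ := by
      rw [mem_centralizer_singleton_iff.1 hc, mul_inv_cancel_right]
    obtain ⟨i, rfl⟩ := h.five_only (isConj_iff.2 ⟨c * g, by rw [hm]; simp only [y]; group⟩)
    have hi : i ≠ 0 := by
      rintro rfl
      refine hne ?_
      have : c * y * c⁻¹ = c * zU φ * c⁻¹ := by rw [hcz, ← hm]; rfl
      exact mul_left_cancel (mul_right_cancel this)
    set e := φ (sgM 0 * sgM i)
    have he : e ∈ eU φ := mem_map_of_mem φ (eP_mul _ (sgM_eP 0) _ (sgM_eP i))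
    have he1 : e ≠ 1 := fun e' => (sgM_pair_ne 0 i 0 (Ne.symm hi)).2 (h.inj (e'.trans (map_one φ).symm))
    have hez : ¬ IsConj (zU φ) e := fun hc' => by
      obtain ⟨j, hj⟩ := h.five_of_conj_mem (eP_mul _ (sgM_eP 0) _ (sgM_eP i)) hc'
      exact (sgM_pair_ne 0 i j (Ne.symm hi)).1 hj
    have hce : c * (zU φ * y) * c⁻¹ = e := by
      simp only [e]
      rw [map_mul, hm, show c * (zU φ * y) * c⁻¹ = c * zU φ * c⁻¹ * (c * y * c⁻¹) by group, hcz]
      rfl
    intro w hw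
    have hw' : Commute (c * w * c⁻¹) e := by
      have := (show Commute w (zU φ * y) from mem_centralizer_singleton_iff.1 hw).map (MulAut.conj c).toMonoidHom
      rw [← hce]
      simpa using this
    obtain ⟨o, ho, hn⟩ := h.cent_e he he1 hez hw'
    have h4 : c * w * c⁻¹ ∈ M := (M.mul_mem_cancel_left (le_normalizer (oc_le_wU he he1 ho))).1 (hNM hn)
    exact (M.mul_mem_cancel_left (hCM hc)).1 ((M.mul_mem_cancel_right (inv_mem (hCM hc))).1 h4)
  obtain ⟨H, hH⟩ := Cfsg.Lib.BenderSE.Crit2.criterionProp G M hM (zU φ) hzo (hSM ⟨sgM 0, rfl⟩) h1 h2 h3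
  exact h.aR_not_conj 0 (StrongEmb.all_conj hH hzo h.a_order)

theorem oc_eq_bot {e : G} (he : e ∈ eU φ) (h1 : e ≠ 1) : Oc e = ⊥ :=
  le_bot_iff.1 (h.wU_eq_bot ▸ oc_le_wU he h1)

/-- The configuration. -/
theorem final : Final φ where
  frame := h
  classes := h.classes
  not_conj := h.aR_not_conj 0
  five_conj := h.five_conj
  five_only := fun _ hm => h.five_only hm
  aR_conj := h.aR_conj
  bR_conj := h.bR_conj
  five_act := fun g hg => ⟨h.perm ⟨g, hg⟩, h.sign_eq_one ⟨g, hg⟩, fun i => h.perm_spec ⟨g, hg⟩ i⟩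
  five_onto := h.five_onto
  q_normal := by
    intro c hc
    refine ZStarApps.mem_normalizer_of_maps ?_
    rintro _ ⟨q, hq, rfl⟩
    obtain ⟨q', hq', hmem⟩ := h.q_mod hc hq
    have hz1 : zU φ ≠ 1 := fun e => (sgM_qP 0).2.2 (h.inj (e.trans (map_one φ).symm))
    rw [h.oc_eq_bot (show zU φ ∈ eU φ from h.sgU_mem 0) hz1, mem_bot, inv_mul_eq_one] at hmem
    exact ⟨q', hq', hmem⟩
  cent_five := by
    rintro g ⟨hg1, hg2⟩
    obtain ⟨o, ho, -, hn⟩ := h.cent_t hg1 (mem_centralizer_singleton_iff.1 hg2)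
    have hz1 : zU φ ≠ 1 := fun e => (sgM_qP 0).2.2 (h.inj (e.trans (map_one φ).symm))
    rw [h.oc_eq_bot (show zU φ ∈ eU φ from h.sgU_mem 0) hz1, mem_bot] at ho
    rwa [ho, one_mul] at hn
  cent_aR := by
    intro k g hg
    have he := h.aR_mem k
    have he1 : φ (aR k) ≠ 1 := fun e => (aR_facts k).2.2.1 (h.inj (e.trans (map_one φ).symm))
    obtain ⟨o, ho, hn⟩ := h.cent_e he he1 (h.aR_not_conj k) (mem_centralizer_singleton_iff.1 hg)
    rw [h.oc_eq_bot he he1, mem_bot] at ho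
    rwa [ho, one_mul] at hn

end Frame

end Cfsg.Lib.UFiveType
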