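import Cfsg.Agent.UFiveType.Setting
import Cfsg.Agent.InvolCalc.ZStarApps

/-!
# Elementary consequences of a frame: the subgroup `E` is weakly closed and controls its fusion
-/

set_option autoImplicit false
set_option linter.style.haveILetI false
set_option linter.unusedSectionVars false
set_option synthInstance.maxSize 1024
set_option maxRecDepth 100000

namespace Cfsg.Lib.UFiveType

open Subgroup

universe u

variable {G : Type u} [Group G] [Finite G] {φ : Mdl →* G}

theorem card_filter_mdl (P : Mdl → Prop) [DecidablePred P] (H : Subgroup Mdl) (h : ∀ a, a ∈ H ↔ P a) :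
    Nat.card H = (Finset.univ.filter fun a : Fin 1024 => P ⟨a⟩).card := by
  classical
  rw [← Fintype.card_subtype, ← Nat.card_eq_fintype_card]
  exact Nat.card_congr
    { toFun := fun a => ⟨a.1.code, (h a.1).1 a.2⟩
      invFun := fun a => ⟨⟨a.1⟩, (h _).2 a.2⟩
      left_inv := fun _ => rfl
      right_inv := fun _ => rfl }

/-- The centraliser of `E` in the model. -/
def rM : Subgroup Mdl where
  carrier := {a | rP a}
  mul_mem' := fun {a b} ha hb i => by rw [mul_assoc, hb i, ← mul_assoc, ha i, mul_assoc]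
  one_mem' := fun i => by simp
  inv_mem' := fun {a} ha i => ((Commute.inv_left (ha i : Commute a (sgM i))).eq)

/-- The centraliser of `E` in the Sylow subgroup. -/
def rU (φ : Mdl →* G) : Subgroup G := rM.map φ

theorem card_eM : Nat.card eM = 16 := (card_filter_mdl eP eM fun _ => Iff.rfl).trans set_cards.1

theorem card_qM : Nat.card qM = 128 := (card_filter_mdl qP qM fun _ => Iff.rfl).trans set_cards.2.1

theorem card_rM : Nat.card rM = 256 := (card_filter_mdl rP rM fun _ => Iff.rfl).trans set_cards.2.2.1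

theorem card_centralizer_mdl (x : Mdl) : Nat.card (centralizer ({x} : Set Mdl)) =
    (Finset.univ.filter fun a : Fin 1024 => (⟨a⟩ : Mdl) * x = x * ⟨a⟩).card :=
  card_filter_mdl (fun a => a * x = x * a) _ fun a => by
    rw [mem_centralizer_singleton_iff]

theorem rP_iff_eM {a : Mdl} : rP a ↔ ∀ e, eP e → a * e = e * a := by
  refine ⟨fun h e he => ?_, fun h i => h _ (sgM_eP i)⟩
  rcases eP_cases e he with rfl | ⟨i, rfl⟩ | ⟨i, j, -, rfl⟩
  · simp
  · exact h i
  · rw [← mul_assoc, h i, mul_assoc, h j, mul_assoc]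

theorem eP_conj_iff (g : Mdl) {a : Mdl} : eP (g * a * g⁻¹) ↔ eP a := by
  refine ⟨fun h => ?_, fun h => eP_normal a h g⟩
  simpa [mul_assoc] using eP_normal _ h g⁻¹

theorem qP_conj_iff (g : Mdl) {a : Mdl} : qP (g * a * g⁻¹) ↔ qP a := by
  refine ⟨fun h => ?_, fun h => qP_normal a h g⟩
  simpa [mul_assoc] using qP_normal _ h g⁻¹

/-- Only the five outside `Q` and their products with the centre are involutions outside `Q`. -/
theorem cent_outside {x : Mdl} (hx : eP x) (hq : ¬ qP x) {a : Mdl} (h : a * x = x * a) : rP a := by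
  obtain ⟨k, hk⟩ := conj_sgM a
  have hkey : ∀ k : Fin 4, ∀ i : Fin 5, i ≠ 0 → v4 k i = i → k = 0 := by decide
  have hfix : ∃ i : Fin 5, i ≠ 0 ∧ a * sgM i = sgM i * a := by
    rcases eP_cases x hx with rfl | ⟨i, rfl⟩ | ⟨i, j, hij, rfl⟩
    · exact absurd qP_one hq
    · exact ⟨i, fun e => hq ((sgM_qP i).1.2 e), h⟩
    · rcases eq_or_ne i 0 with rfl | hi
      · refine ⟨j, hij.ne', ?_⟩
        rw [← mul_assoc, ← mdl_center (sgM 0) a rfl, mul_assoc, mul_assoc] at h
        exact mul_left_cancel h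
      · exact absurd (pair_qP i j hi (by omega)) hq
  obtain ⟨i, hi, he⟩ := hfix
  have h1 : sgM (v4 k i) = sgM i := by rw [← hk i, he, mul_inv_cancel_right]
  have hk0 := hkey k i hi (sgM_inj h1)
  subst hk0
  intro l
  have hid : ∀ l : Fin 5, v4 0 l = l := by decide
  have h2 := hk l
  rw [hid l] at h2
  exact mul_inv_eq_iff_eq_mul.1 h2

/-- `E` is the only elementary abelian subgroup of order 16 of the model. -/
theorem eq_eM (A : Subgroup Mdl) (hsq : ∀ a ∈ A, a * a = 1) (hcm : ∀ a ∈ A, ∀ b ∈ A, a * b = b * a)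
    (hc : Nat.card A = 16) : A = eM := by
  classical
  suffices hle : ∀ a ∈ A, eP a from
    eq_of_le_of_card_ge hle (by rw [hc, card_eM])
  by_contra hne
  push Not at hne
  obtain ⟨x, hxA, hxE⟩ := hne
  by_cases hQ : ∀ a ∈ A, qP a
  · have hrep : ∀ c : Fin 8, ¬ eP (iRep c) → ∃ k, iRep c = bR k := by decide +kernel
    rcases invol_class x (hsq x hxA) with rfl | rfl | ⟨c, w, rfl⟩
    · exact hxE eP_one
    · exact hxE (sgM_eP 0)
    obtain ⟨k, hk⟩ := hrep c fun h => hxE (eP_normal _ h _)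
    rw [hk] at hxA
    set g := conjW w
    set A' := A.comap (MulAut.conj g).toMonoidHom
    have hA' : ∀ a, a ∈ A' → qP a ∧ a * a = 1 ∧ a * bR k = bR k * a ∧ ∀ b ∈ A', a * b = b * a := by
      intro a ha
      have ha' : g * a * g⁻¹ ∈ A := ha
      refine ⟨(qP_conj_iff g).1 (hQ _ ha'), (MulAut.conj g).injective ?_, (MulAut.conj g).injective ?_,
        fun b hb => (MulAut.conj g).injective ?_⟩
      · rw [map_mul, map_one]; exact hsq _ ha'
      · rw [map_mul, map_mul]; exact hcm _ ha' _ hxA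
      · rw [map_mul, map_mul]; exact hcm _ ha' _ hb
    have hc' : Nat.card A' = 16 := by
      rw [← hc]
      exact Nat.card_congr ((MulAut.conj g).toEquiv.subtypeEquiv fun _ => Iff.rfl)
    obtain ⟨y, hy, h1, h2, h3, h4⟩ : ∃ y ∈ A', y ≠ 1 ∧ y ≠ sgM 0 ∧ y ≠ bR k ∧ y ≠ sgM 0 * bR k := by
      by_contra hh
      push Not at hh
      have hsub : (A' : Set Mdl).toFinset ⊆ {1, sgM 0, bR k, sgM 0 * bR k} := by
        intro y hy
        rw [Set.mem_toFinset] at hy
        simp only [Finset.mem_insert, Finset.mem_singleton]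
        tauto
      have h16 : (A' : Set Mdl).toFinset.card = 16 := by
        rw [Set.toFinset_card, ← Nat.card_eq_fintype_card]; exact hc'
      have := Finset.card_le_card hsub
      have h4 : ({1, sgM 0, bR k, sgM 0 * bR k} : Finset Mdl).card ≤ 4 := Finset.card_le_four
      omega
    obtain ⟨hy1, hy2, hy3, -⟩ := hA' y hy
    rcases weak_bound k y hy1 hy2 hy3 with e | e | e | e | hlt
    · exact h1 e
    · exact h2 e
    · exact h3 e
    · exact h4 e
    have hle : (A' : Set Mdl).toFinset.card ≤ (Finset.univ.filter fun u : Fin 128 =>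
        ofN u.val * ofN u.val = 1 ∧ ofN u.val * bR k = bR k * ofN u.val ∧ ofN u.val * y = y * ofN u.val).card := by
      refine Finset.card_le_card_of_injOn (fun a => (⟨a.code.val % 128, Nat.mod_lt _ (by norm_num)⟩ : Fin 128))
        (fun a ha => ?_) ?_
      · rw [Finset.mem_coe, Set.mem_toFinset] at ha
        obtain ⟨a1, a2, a3, a4⟩ := hA' a ha
        have e : ofN (a.code.val % 128) = a := by
          obtain ⟨c⟩ := a
          refine congrArg Mdl.mk (Fin.ext ?_)
          have : c.val < 128 := a1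
          show c.val % 128 % 1024 = c.val
          omega
        simp only [Finset.coe_filter, Finset.mem_univ, true_and, Set.mem_ofPred_eq, e]
        exact ⟨a2, a3, a4 y hy⟩
      · intro a ha b hb hab
        rw [Finset.mem_coe, Set.mem_toFinset] at ha hb
        obtain ⟨c⟩ := a
        obtain ⟨d⟩ := b
        have h1 : c.val < 128 := (hA' _ ha).1
        have h2 : d.val < 128 := (hA' _ hb).1
        have h3 := congrArg Fin.val hab
        refine congrArg Mdl.mk (Fin.ext ?_)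
        simp only at h3
        omega
    have h16 : (A' : Set Mdl).toFinset.card = 16 := by
      rw [Set.toFinset_card, ← Nat.card_eq_fintype_card]; exact hc'
    omega
  · push Not at hQ
    obtain ⟨y, hy, hyQ⟩ := hQ
    have hyE := (invol_cases y (hsq y hy)).resolve_right hyQ
    exact hxE (rP_invol x (cent_outside hyE hyQ (hcm x hxA y hy)) (hsq x hxA))

namespace Frame

variable (h : Frame φ)
include h

theorem isPGroup : IsPGroup 2 φ.range := by
  obtain ⟨S, hS⟩ := h.sylow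
  exact hS ▸ S.isPGroup'

/-- A 2-subgroup of a subgroup containing the Sylow subgroup moves into it. -/
theorem into_range {V H : Subgroup G} (hV : IsPGroup 2 V) (hVH : V ≤ H) (hH : φ.range ≤ H) :
    ∃ g ∈ H, ∀ v ∈ V, g * v * g⁻¹ ∈ φ.range := by
  obtain ⟨S, hS⟩ := h.sylow
  obtain ⟨g, hg, hv⟩ := Cfsg.Lib.ZStarApps.exists_conj_mem_sylow S (hS ▸ hH) hV hVH
  exact ⟨g, hg, fun v hvV => hS ▸ hv v hvV⟩

theorem order_two {m : Mdl} (hm : m * m = 1) (hm1 : m ≠ 1) : orderOf (φ m) = 2 := by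
  rw [orderOf_injective φ h.inj]
  exact orderOf_eq_prime (by rw [pow_two, hm]) hm1

theorem card_map_eq (H : Subgroup Mdl) : Nat.card (H.map φ) = Nat.card H :=
  (Nat.card_congr (H.equivMapOfInjective φ h.inj).toEquiv).symm

theorem card_eU : Nat.card (eU φ) = 16 := (h.card_map_eq eM).trans card_eM

theorem eU_comm {x y : G} (hx : x ∈ eU φ) (hy : y ∈ eU φ) : x * y = y * x := by
  obtain ⟨a, ha, rfl⟩ := hx
  obtain ⟨b, hb, rfl⟩ := hy
  rw [← map_mul, ← map_mul, eP_comm a ha b hb]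

theorem eU_sq {x : G} (hx : x ∈ eU φ) : x * x = 1 := by
  obtain ⟨a, ha, rfl⟩ := hx
  rw [← map_mul, eP_sq a ha, map_one]

theorem sgU_mem (i : Fin 5) : sgU φ i ∈ eU φ := mem_map_of_mem φ (sgM_eP i)

theorem aR_mem (k : Fin 3) : φ (aR k) ∈ eU φ := mem_map_of_mem φ (aR_facts k).2.1

theorem range_le_norm : φ.range ≤ normalizer (eU φ : Set G) := by
  rintro _ ⟨g, rfl⟩
  refine Cfsg.Lib.ZStarApps.mem_normalizer_of_maps ?_
  rintro _ ⟨a, ha, rfl⟩
  exact ⟨g * a * g⁻¹, eP_normal a ha g, by simp⟩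

theorem range_le_cU : φ.range ≤ cU φ := by
  rintro _ ⟨g, rfl⟩
  rw [cU, mem_centralizer_singleton_iff, zU, ← map_mul, ← map_mul, mdl_center (sgM 0) g rfl]

theorem rU_le : rU φ ≤ centralizer (eU φ : Set G) := by
  rintro _ ⟨a, ha, rfl⟩
  rw [mem_centralizer_iff]
  rintro _ ⟨e, he, rfl⟩
  rw [← map_mul, ← map_mul, rP_iff_eM.1 ha e he]

/-- `E` is weakly closed. -/
theorem weakly_closed {A : Subgroup G} (hA : A ≤ φ.range) (hsq : ∀ a ∈ A, a * a = 1)
    (hcm : ∀ a ∈ A, ∀ b ∈ A, a * b = b * a) (hc : Nat.card A = 16) : A = eU φ := by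
  have hmap : (A.comap φ).map φ = A := map_comap_eq_self hA
  have e := eq_eM (A.comap φ) (fun a ha => h.inj (by rw [map_mul, map_one]; exact hsq _ ha))
    (fun a ha b hb => h.inj (by rw [map_mul, map_mul]; exact hcm _ ha _ hb))
    (by rw [← hc, ← h.card_map_eq, hmap])
  rw [← hmap, e, eU]

/-- A conjugation between elements of `E` agrees with one normalising `E`. -/
theorem control {T : Set G} (hT : T ⊆ eU φ) {g : G} (hg : ∀ x ∈ T, g * x * g⁻¹ ∈ eU φ) :
    ∃ n ∈ normalizer (eU φ : Set G), ∀ x ∈ T, n * x * n⁻¹ = g * x * g⁻¹ := by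
  haveI : Fact (Nat.Prime 2) := ⟨Nat.prime_two⟩
  set H := centralizer ((fun x => g * x * g⁻¹) '' T)
  set E' := (eU φ).map (MulAut.conj g).toMonoidHom
  have hE : eU φ ≤ H := fun x hx => mem_centralizer_iff.2 (by
    rintro _ ⟨t, ht, rfl⟩
    exact h.eU_comm (hg t ht) hx)
  have hE' : E' ≤ H := by
    rintro _ ⟨x, hx, rfl⟩
    rw [mem_centralizer_iff]
    rintro _ ⟨t, ht, rfl⟩
    show g * t * g⁻¹ * (g * x * g⁻¹) = g * x * g⁻¹ * (g * t * g⁻¹)
    rw [show g * t * g⁻¹ * (g * x * g⁻¹) = g * (t * x) * g⁻¹ by group, h.eU_comm (hT ht) hx]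
    group
  have hp : IsPGroup 2 (eU φ) := h.isPGroup.to_le (map_le_range φ eM)
  have hp' : IsPGroup 2 E' := hp.map _
  obtain ⟨T₁, hT₁⟩ := (hp.of_injective (subgroupOfEquivOfLe hE).toMonoidHom
    (subgroupOfEquivOfLe hE).injective).exists_le_sylow
  obtain ⟨T₂, hT₂⟩ := (hp'.of_injective (subgroupOfEquivOfLe hE').toMonoidHom
    (subgroupOfEquivOfLe hE').injective).exists_le_sylow
  obtain ⟨c, hc⟩ := MulAction.exists_smul_eq H T₂ T₁
  obtain ⟨d, -, hd⟩ := h.into_range (H := ⊤) (T₁.isPGroup'.map H.subtype) le_top le_top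
  have inR : ∀ x (hx : x ∈ E'), d * ((c : G) * x * (c : G)⁻¹) * d⁻¹ ∈ φ.range := fun x hx => by
    refine hd _ ⟨c * ⟨x, hE' hx⟩ * c⁻¹, ?_, rfl⟩
    rw [← hc]
    exact ⟨⟨x, hE' hx⟩, hT₂ hx, rfl⟩
  have key : ∀ k : G, (∀ x ∈ eU φ, k * x * k⁻¹ ∈ φ.range) → k ∈ normalizer (eU φ : Set G) := fun k hk => by
    have e : (eU φ).map (MulAut.conj k).toMonoidHom = eU φ := by
      refine h.weakly_closed ?_ ?_ ?_ ?_
      · rintro _ ⟨x, hx, rfl⟩; exact hk x hx
      · rintro _ ⟨x, hx, rfl⟩; rw [← map_mul, h.eU_sq hx, map_one]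
      · rintro _ ⟨x, hx, rfl⟩ _ ⟨y, hy, rfl⟩; rw [← map_mul, ← map_mul, h.eU_comm hx hy]
      · rw [card_map_of_injective (MulAut.conj k).injective, h.card_eU]
    exact Cfsg.Lib.ZStarApps.mem_normalizer_of_maps fun x hx => e ▸ ⟨x, hx, rfl⟩
  have h1 : d ∈ normalizer (eU φ : Set G) := key d fun x hx => hd _ ⟨⟨x, hE hx⟩, hT₁ hx, rfl⟩
  have h2 : d * (c * g) ∈ normalizer (eU φ : Set G) := key _ fun x hx => by
    have := inR (g * x * g⁻¹) ⟨x, hx, rfl⟩
    rwa [show d * (↑c * g) * x * (d * (↑c * g))⁻¹ = d * (↑c * (g * x * g⁻¹) * (↑c)⁻¹) * d⁻¹ by group]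
  refine ⟨c * g, (mul_mem_cancel_left h1).1 h2, fun t ht => ?_⟩
  have hcc := mem_centralizer_iff.1 c.2 _ ⟨t, ht, rfl⟩
  simp only at hcc
  rw [show (c : G) * g * t * ((c : G) * g)⁻¹ = c * (g * t * g⁻¹) * (c : G)⁻¹ by group, ← hcc, mul_inv_cancel_right]

end Frame

end Cfsg.Lib.UFiveType
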