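import Cfsg.Agent.UFiveType.ZClosed
import Cfsg.Agent.S4593
import Cfsg.Agent.Goldschmidt.Final
import Cfsg.Agent.Goldschmidt.Consequences.ThmA.Structure

/-!
# `Q` is normal in the centraliser modulo its core

The strongly closed abelian image of `Q` modulo the centre moves no component: the vectors of a component would
form a line of one kind, and the Sylow subgroup moves every line to one that is not orthogonal to it.
-/

set_option autoImplicit false
set_option linter.style.haveILetI false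
set_option linter.unusedSectionVars false
set_option synthInstance.maxSize 1024
set_option maxRecDepth 100000

namespace Cfsg.Lib.UFiveType

open Subgroup Cfsg.Lib.Components Cfsg.Lib.Goldschmidt
open Cfsg.Lib.Goldschmidt.ThmA (Cfg movSet movLayer comm_of_ne)

universe u

variable {X : Type u} [Group X] [Finite X] {ψ : Mdl →* X}

theorem sq_mul_of_comm {m n : Mdl} (hc : m * n = n * m) : m * n * (m * n) = m * m * (n * n) :=
  (Commute.mul_mul_mul_comm (show Commute n m from hc.symm) m n)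

theorem sq_mul_of_anti {m n : Mdl} (hc : m * n = sgM 0 * (n * m)) : m * n * (m * n) = sgM 0 * (m * m * (n * n)) := by
  have hnm : n * m = sgM 0 * (m * n) := by rw [hc, ← mul_assoc, sgM_zero_sq, one_mul]
  calc m * n * (m * n) = m * (n * m) * n := by group
    _ = m * (sgM 0 * (m * n)) * n := by rw [hnm]
    _ = (m * sgM 0) * (m * n * n) := by group
    _ = sgM 0 * m * (m * n * n) := by rw [mdl_center (sgM 0) m rfl]
    _ = _ := by group
where
  sgM_zero_sq : sgM 0 * sgM 0 = 1 := eP_sq _ (sgM_eP 0)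

namespace ZSet

variable (h : ZSet ψ)
include h

/-- The central subgroup of order two. -/
def zSub (_ : ZSet ψ) : Subgroup X := zpowers (ψ (sgM 0))

theorem zSub_le : h.zSub ≤ center X := zpowers_le.2 h.central

instance zSub_normal : h.zSub.Normal :=
  ⟨fun x hx g => by rwa [mem_center_iff.1 (h.zSub_le hx) g, mul_inv_cancel_right]⟩

theorem mem_zSub {x : X} : x ∈ h.zSub ↔ x = 1 ∨ x = ψ (sgM 0) := by
  constructor
  · intro hx
    obtain ⟨i, rfl⟩ := mem_zpowers_iff.1 hx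
    rcases Int.even_or_odd' i with ⟨j, rfl | rfl⟩
    · exact Or.inl (by rw [zpow_mul, zpow_ofNat, pow_two, h.z_sq, one_zpow])
    · exact Or.inr (by rw [zpow_add_one, zpow_mul, zpow_ofNat, pow_two, h.z_sq, one_zpow, one_mul])
  · rintro (rfl | rfl)
    exacts [one_mem _, mem_zpowers _]

/-- The map of the model to the quotient by the centre. -/
def eta : Mdl →* X ⧸ h.zSub :=
  (QuotientGroup.mk' h.zSub).comp ψ

theorem eta_eq {a b : Mdl} : h.eta a = h.eta b ↔ b = a ∨ b = sgM 0 * a := by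
  show QuotientGroup.mk' h.zSub (ψ a) = QuotientGroup.mk' h.zSub (ψ b) ↔ _
  rw [QuotientGroup.mk'_apply, QuotientGroup.mk'_apply, QuotientGroup.eq, h.mem_zSub,
    inv_mul_eq_one, inv_mul_eq_iff_eq_mul, ← map_mul, h.frame.inj.eq_iff, h.frame.inj.eq_iff,
    ← mdl_center (sgM 0) a rfl]
  exact or_congr_left eq_comm

theorem eta_one {a : Mdl} : h.eta a = 1 ↔ a = 1 ∨ a = sgM 0 := by
  rw [← map_one h.eta, eq_comm, h.eta_eq, mul_one]

/-- The vectors. -/
def vec : Subgroup (X ⧸ h.zSub) :=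
  qM.map h.eta

theorem qP_of_vec {m : Mdl} (hm : h.eta m ∈ h.vec) : qP m := by
  obtain ⟨q, hq, e⟩ := hm
  rcases h.eta_eq.1 e with rfl | rfl
  · exact hq
  · exact qP_mul _ (by decide +kernel) _ hq

/-- A conjugation in the quotient does not change squares. -/
theorem sq_of_conj {m n : Mdl} {g : X ⧸ h.zSub} (e : g * h.eta m * g⁻¹ = h.eta n) :
    ψ (n * n) = g.out * ψ (m * m) * g.out⁻¹ := by
  have e' : QuotientGroup.mk' h.zSub (g.out * ψ m * g.out⁻¹) = QuotientGroup.mk' h.zSub (ψ n) := by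
    rw [map_mul, map_mul, map_inv, QuotientGroup.mk'_apply h.zSub g.out, QuotientGroup.out_eq']
    exact e
  rw [QuotientGroup.mk'_apply, QuotientGroup.mk'_apply, QuotientGroup.eq, h.mem_zSub, inv_mul_eq_one,
    inv_mul_eq_iff_eq_mul] at e'
  rcases e' with e' | e'
  · rw [map_mul ψ n n, ← e', map_mul]; group
  · rw [map_mul ψ n n, e',
      (show Commute (ψ (sgM 0)) (g.out * ψ m * g.out⁻¹) from (mem_center_iff.1 h.central _).symm).mul_mul_mul_comm,
      h.z_sq, mul_one, map_mul]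
    group

theorem sq_eq_of_conj {m n : Mdl} (hm : qP m) {g : X ⧸ h.zSub} (e : g * h.eta m * g⁻¹ = h.eta n) :
    n * n = m * m := by
  refine h.frame.inj ((h.sq_of_conj e).trans ?_)
  rcases qP_sq m hm with e' | e' <;> rw [e']
  · simp
  · exact h.z_conj _

theorem singular_conj {q : Mdl} (hq : qP q) (hq2 : q * q = 1) (h1 : q ≠ 1) (hz : q ≠ sgM 0) {r : Mdl}
    (hr : qP r) (hr2 : r * r = 1) (h1' : r ≠ 1) (hz' : r ≠ sgM 0) :
    ∃ g : X ⧸ h.zSub, g * h.eta q * g⁻¹ = h.eta r := by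
  obtain ⟨c, hc⟩ := isConj_iff.1 ((h.sing_conj hq hq2 h1 hz).symm.trans (h.sing_conj hr hr2 h1' hz'))
  refine ⟨QuotientGroup.mk' h.zSub c, ?_⟩
  show _ = QuotientGroup.mk' h.zSub (ψ r)
  rw [← hc, map_mul, map_mul, map_inv]
  rfl

/-- The Sylow subgroup of the quotient. -/
theorem exists_cfg :
    ∃ T : Sylow 2 (X ⧸ h.zSub), (T : Subgroup (X ⧸ h.zSub)) = h.eta.range ∧ Cfg T h.vec := by
  haveI : Fact (Nat.Prime 2) := ⟨Nat.prime_two⟩
  obtain ⟨S, hS⟩ := h.frame.sylow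
  set π := QuotientGroup.mk' h.zSub
  refine ⟨S.mapSurjective (QuotientGroup.mk'_surjective _), ?_, Cfsg.Lib.Goldschmidt.goldProp, ?_, ⟨?_, ?_⟩, ?_⟩
  · show (S : Subgroup X).map π = (π.comp ψ).range
    rw [hS, MonoidHom.range_comp]
  · refine Cfsg.Lib.AbelianSylowTwoInner.pPrimeCore_quotient_eq_bot h.core h.zSub h.zSub_le ?_
    refine IsPGroup.of_card (n := 1) ?_
    rw [zSub, Nat.card_zpowers, pow_one]
    exact h.frame.order_two (eP_sq _ (sgM_eP 0)) (sgM_qP 0).2.2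
  · rintro _ ⟨q, -, rfl⟩
    exact ⟨ψ q, hS ▸ ⟨q, rfl⟩, rfl⟩
  · rintro _ ⟨q, hq, rfl⟩ g hg
    obtain ⟨g, rfl⟩ := QuotientGroup.mk'_surjective h.zSub g
    obtain ⟨s, hs, e⟩ := hg
    rw [hS] at hs
    obtain ⟨m, rfl⟩ := hs
    have e' : π (ψ m) = π (g * ψ q * g⁻¹) := by rw [e]; simp [eta, π]
    rw [QuotientGroup.mk'_apply, QuotientGroup.mk'_apply, QuotientGroup.eq, h.mem_zSub, inv_mul_eq_one,
      inv_mul_eq_iff_eq_mul, ← map_mul] at e'
    refine ⟨m, ?_, e⟩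
    rcases e' with e' | e'
    · exact h.closed hq e'.symm
    · have h1 := h.closed hq e'
      have h2 := qP_mul _ h1 _ (show qP (sgM 0) by decide +kernel)
      rwa [mul_assoc, eP_sq _ (sgM_eP 0), mul_one] at h2
  · rintro _ ⟨a, ha, rfl⟩ _ ⟨b, hb, rfl⟩
    rw [← map_mul, ← map_mul, h.eta_eq]
    rcases qP_comm b hb a ha with e | e
    · exact Or.inl e
    · exact Or.inr e

theorem core_bot {T : Sylow 2 (X ⧸ h.zSub)} (hc : Cfg T h.vec) {L : Subgroup (X ⧸ h.zSub)}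
    (hL : Cfsg.IsComponent L) (hm : Mov h.vec L) : h.vec ⊓ Cfsg.pCore 2 (X ⧸ h.zSub) = ⊥ := by
  haveI := hc.inf_pCore_normal
  set V0 := h.vec ⊓ Cfsg.pCore 2 (X ⧸ h.zSub) with hV0
  by_contra hne
  obtain ⟨x, hx, hx1⟩ := (bot_or_exists_ne_one V0).resolve_left hne
  obtain ⟨v, hv, rfl⟩ := hx.1
  have hvv : v ≠ 1 ∧ v ≠ sgM 0 := ⟨fun e => hx1 (h.eta_one.2 (Or.inl e)), fun e => hx1 (h.eta_one.2 (Or.inr e))⟩
  obtain ⟨a, haV, haE, ha1, haz⟩ : ∃ a, h.eta a ∈ V0 ∧ eP a ∧ a ≠ 1 ∧ a ≠ sgM 0 := by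
    rcases qP_step v hv with e | e | e | ⟨i, e, e1, e2⟩
    · exact absurd e hvv.1
    · exact absurd e hvv.2
    · exact ⟨v, hx, e, hvv⟩
    · refine ⟨_, ?_, e, e1, e2⟩
      rw [map_mul, map_mul, map_mul, map_inv, map_inv]
      exact mul_mem (Subgroup.Normal.conj_mem inferInstance _ hx _) (inv_mem hx)
  have haQ : qP a := h.qP_of_vec haV.1
  have hall : ∀ q, qP q → q * q = 1 → h.eta q ∈ V0 := fun q hq hq2 => by
    by_cases h1 : q = 1
    · rw [h1, map_one]; exact one_mem _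
    by_cases h2 : q = sgM 0
    · rw [h.eta_one.2 (Or.inr h2)]; exact one_mem _
    obtain ⟨g, hg⟩ := h.singular_conj haQ (eP_sq a haE) ha1 haz hq hq2 h1 h2
    exact hg ▸ Subgroup.Normal.conj_mem inferInstance _ haV g
  have hle : h.vec ≤ V0 := by
    rintro _ ⟨q, hq, rfl⟩
    obtain ⟨c, hc1, hc2⟩ := qP_two_invol q hq
    have hcQ : qP (ofN c.val) := show c.val % 1024 < 128 by omega
    have := mul_mem (hall _ hcQ hc1) (hall _ (qP_mul _ hcQ _ hq) hc2)
    rwa [map_mul, ← mul_assoc, ← map_mul, hc1, map_one, one_mul] at this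
  apply hm
  intro y hy
  haveI : Fact (Nat.Prime 2) := ⟨Nat.prime_two⟩
  haveI : (Cfsg.pCore 2 (X ⧸ h.zSub)).Normal := pCore_normal' 2
  haveI := (isPGroup_pCore 2 (G := X ⧸ h.zSub)).isNilpotent
  have h1 := comp_commute_of_solvable hL (inferInstance : Group.IsSolvable (Cfsg.pCore 2 (X ⧸ h.zSub)))
    (le_top.trans (normalizer_eq_top _).ge)
  rw [Subgroup.commutator_comm] at h1
  exact commutator_eq_bot_iff_le_centralizer.1 h1 (hle hy).2

/-- The vectors of a moved component are conjugate inside it, and there are two. -/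
theorem comp_facts {T : Sylow 2 (X ⧸ h.zSub)} (hc : Cfg T h.vec) {L : Subgroup (X ⧸ h.zSub)}
    (hL : Cfsg.IsComponent L) (hm : Mov h.vec L) :
    (∀ v ∈ h.vec ⊓ L, v ≠ 1 → ∀ w ∈ h.vec ⊓ L, w ≠ 1 → ∃ l ∈ L, l * v * l⁻¹ = w) ∧
    ∃ v ∈ h.vec ⊓ L, ∃ w ∈ h.vec ⊓ L, v ≠ 1 ∧ w ≠ 1 ∧ v ≠ w := by
  have hb := h.core_bot hc hL hm
  obtain ⟨P, D⟩ := hc.data hL hm
  have hinj : ∀ x y : ↥L, zm L x = zm L y → x = y := fun x y e => by
    have h2 := hc.center_le_core hL hm ((x⁻¹ * y : ↥L)).2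
      (by rw [Subgroup.coe_mul, Subgroup.coe_inv]; exact zm_eq_iff.1 e)
    rw [hb, mem_bot] at h2
    exact inv_mul_eq_one.1 (Subtype.ext h2)
  have hI : ∀ x : ↥L, (x : X ⧸ h.zSub) ∈ h.vec → Inv (P : Subgroup (↥L ⧸ center ↥L)) (zm L x) := fun x hx => by
    refine ⟨(D.mem_iff x).2 (hc.le hx), ?_⟩
    rw [← map_mul]
    refine zm_eq_one.2 ?_
    obtain ⟨q, hq, e⟩ := hx
    rw [Subgroup.coe_mul, ← e, ← map_mul, h.eta_one.2 (qP_sq q hq)]
    exact one_mem _
  refine ⟨fun v hv hv1 w hw hw1 => ?_, ?_⟩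
  · obtain ⟨r, -, -, htr, -, -⟩ := D.facts.simple.rot
    obtain ⟨k, hk⟩ := htr _ _ (hI ⟨v, hv.2⟩ hv.1) (hI ⟨w, hw.2⟩ hw.1)
      (fun e => hv1 (congrArg Subtype.val (hinj ⟨v, hv.2⟩ 1 (e.trans (map_one _).symm))))
      (fun e => hw1 (congrArg Subtype.val (hinj ⟨w, hw.2⟩ 1 (e.trans (map_one _).symm))))
    obtain ⟨l, hl⟩ := QuotientGroup.mk'_surjective (center ↥L) (r ^ k)
    refine ⟨l, l.2, congrArg Subtype.val (hinj (l * ⟨v, hv.2⟩ * l⁻¹) ⟨w, hw.2⟩ ?_)⟩
    rw [map_mul, map_mul, map_inv, show zm L l = r ^ k from hl, hk]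
  · obtain ⟨i, j, hi, hj, hi1, hj1, hij⟩ := D.facts.simple.two
    obtain ⟨v, hv, -, ev⟩ := D.lift i hi
    obtain ⟨w, hw, -, ew⟩ := D.lift j hj
    refine ⟨v, ⟨hv, v.2⟩, w, ⟨hw, w.2⟩, fun e => hi1 ?_, fun e => hj1 ?_, fun e => hij ?_⟩
    · rw [← ev, show v = 1 from Subtype.ext e, map_one]
    · rw [← ew, show w = 1 from Subtype.ext e, map_one]
    · rw [← ev, ← ew, show v = w from Subtype.ext e]

/-- Lifts of vectors of different moved components commute. -/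
theorem cross {T : Sylow 2 (X ⧸ h.zSub)} (hc : Cfg T h.vec) {L L' : Subgroup (X ⧸ h.zSub)}
    (hL : Cfsg.IsComponent L) (hm : Mov h.vec L) (hL' : Cfsg.IsComponent L') (hne : L ≠ L') {m n : Mdl}
    (hmL : h.eta m ∈ h.vec ⊓ L) (hn : h.eta n ∈ h.vec ⊓ L') (hm1 : h.eta m ≠ 1) : m * n = n * m := by
  obtain ⟨htr, v, hv, w, hw, hv1, hw1, hvw⟩ := h.comp_facts hc hL hm
  obtain ⟨x, hx, hx1, hxm⟩ : ∃ x ∈ h.vec ⊓ L, x ≠ 1 ∧ x ≠ h.eta m := by
    by_cases e : v = h.eta m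
    · exact ⟨w, hw, hw1, fun e' => hvw (e.trans e'.symm)⟩
    · exact ⟨v, hv, hv1, e⟩
  obtain ⟨m', hm'Q, rfl⟩ := hx.1
  have hmQ : qP m := h.qP_of_vec hmL.1
  have hnQ : qP n := h.qP_of_vec hn.1
  have step : ∀ r, qP r → h.eta r ∈ L → h.eta r ≠ 1 →
      r * r = m * m ∧ r * n * (r * n) = m * n * (m * n) := fun r hr hrL hr1 => by
    obtain ⟨l, hl, e⟩ := htr _ hmL hm1 _ ⟨mem_map_of_mem _ hr, hrL⟩ hr1
    refine ⟨h.sq_eq_of_conj hmQ e, h.sq_eq_of_conj (qP_mul _ hmQ _ hnQ) (g := l) ?_⟩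
    have hcm : l * h.eta n = h.eta n * l := (mem_centralizer_iff.1 (comm_of_ne hL hL' hne hl) _ hn.2).symm
    calc l * h.eta (m * n) * l⁻¹ = l * h.eta m * l⁻¹ * (l * h.eta n * l⁻¹) := by rw [map_mul]; group
      _ = h.eta (r * n) := by rw [e, hcm, mul_inv_cancel_right, map_mul]
  obtain ⟨e1, f1⟩ := step m' hm'Q hx.2 hx1
  have hpne : h.eta (m * m') ≠ 1 := fun e => hxm (by
    rw [map_mul] at e
    have h2 : h.eta m * h.eta m = 1 := by
      rw [← map_mul, h.eta_one.2 (qP_sq m hmQ)]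
    exact mul_left_cancel (e.trans h2.symm))
  obtain ⟨e2, f2⟩ := step (m * m') (qP_mul _ hmQ _ hm'Q) (by rw [map_mul]; exact mul_mem hmL.2 hx.2) hpne
  by_contra hnc
  have hanti := (qP_comm m hmQ n hnQ).resolve_left hnc
  have hz : ∀ y : Mdl, y ≠ sgM 0 * y := fun y e => (sgM_qP 0).2.2 (mul_eq_right.1 e.symm)
  have h' : m' * n = sgM 0 * (n * m') := (qP_comm m' hm'Q n hnQ).resolve_left fun hc' => hz _ (by
    have := f1
    rw [sq_mul_of_comm hc', sq_mul_of_anti hanti, e1] at this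
    exact this)
  have h'' : m * m' * n = n * (m * m') := by
    rw [mul_assoc, h', ← mul_assoc, ← mdl_center (sgM 0) m rfl, mul_assoc, ← mul_assoc m, hanti, mul_assoc,
      ← mul_assoc (sgM 0), eP_sq _ (sgM_eP 0), one_mul, mul_assoc]
  exact hz _ (by
    have := f2
    rw [sq_mul_of_comm h'', sq_mul_of_anti hanti, e2] at this
    exact this)

theorem no_moved {T : Sylow 2 (X ⧸ h.zSub)} (hT : (T : Subgroup (X ⧸ h.zSub)) = h.eta.range) (hc : Cfg T h.vec)
    (L : Subgroup (X ⧸ h.zSub)) (hL : Cfsg.IsComponent L) (hm : Mov h.vec L) : False := by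
  obtain ⟨htr, v, hv, w, hw, hv1, hw1, hvw⟩ := h.comp_facts hc hL hm
  obtain ⟨m, hmQ, rfl⟩ := hv.1
  obtain ⟨n, hnQ, rfl⟩ := hw.1
  have hconst : ∀ r, qP r → h.eta r ∈ L → h.eta r ≠ 1 → r * r = m * m := fun r hr hrL hr1 => by
    obtain ⟨l, -, e⟩ := htr _ hv hv1 _ ⟨mem_map_of_mem _ hr, hrL⟩ hr1
    exact h.sq_eq_of_conj hmQ e
  rcases qP_sq m hmQ with hm2 | hm2
  · -- all singular: two components hold non-orthogonal singular vectors
    have hm1 : m ≠ 1 ∧ m ≠ sgM 0 := ⟨fun e => hv1 (h.eta_one.2 (Or.inl e)), fun e => hv1 (h.eta_one.2 (Or.inr e))⟩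
    obtain ⟨g, hg⟩ := h.singular_conj hmQ hm2 hm1.1 hm1.2 (aR_facts 1).1 (eP_sq _ (aR_facts 1).2.1)
      (aR_facts 1).2.2.1 (aR_facts 1).2.2.2
    have hbz : bR 0 ≠ sgM 0 := fun e => (bR_facts 0).2.1 (e ▸ sgM_eP 0)
    obtain ⟨g', hg'⟩ := h.singular_conj hmQ hm2 hm1.1 hm1.2 (bR_facts 0).1 (bR_facts 0).2.2.1
      (bR_facts 0).2.2.2.1 hbz
    set L₁ := L.map (MulAut.conj g).toMonoidHom
    set L₂ := L.map (MulAut.conj g').toMonoidHom
    have h1 : h.eta (aR 1) ∈ h.vec ⊓ L₁ := ⟨mem_map_of_mem _ (aR_facts 1).1, ⟨_, hv.2, hg⟩⟩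
    have h2 : h.eta (bR 0) ∈ h.vec ⊓ L₂ := ⟨mem_map_of_mem _ (bR_facts 0).1, ⟨_, hv.2, hg'⟩⟩
    have hL₁ := Cfsg.Lib.Components.comp_conj hL g
    have hm₁ := hc.mov_conj hL hm g
    have hne1 : ∀ r : Mdl, r ≠ 1 → r ≠ sgM 0 → h.eta r ≠ 1 := fun r a b e => (h.eta_one.1 e).elim a b
    by_cases hLL : L₁ = L₂
    · obtain ⟨htr₁, -⟩ := h.comp_facts hc hL₁ hm₁
      have hpQ := qP_mul _ (aR_facts 1).1 _ (bR_facts 0).1
      have hpne : h.eta (aR 1 * bR 0) ≠ 1 := fun e => by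
        rcases h.eta_one.1 e with e' | e'
        · exact bR_noncomm (by
            rw [← inv_eq_of_mul_eq_one_right e', inv_mul_cancel, mul_inv_cancel])
        · exact bR_noncomm (by
            have hb := eq_inv_mul_of_mul_eq e'
            rw [hb, mul_assoc, ← mul_assoc (aR 1), mul_inv_cancel, one_mul,
              mdl_center (sgM 0) (aR 1) rfl, inv_mul_cancel_left])
      obtain ⟨l, -, e⟩ := htr₁ _ h1 (hne1 _ (aR_facts 1).2.2.1 (aR_facts 1).2.2.2) _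
        ⟨mem_map_of_mem _ hpQ, by rw [map_mul]; exact mul_mem h1.2 (show h.eta (bR 0) ∈ L₁ by rw [hLL]; exact h2.2)⟩ hpne
      have e' := h.sq_eq_of_conj (aR_facts 1).1 e
      rw [eP_sq _ (aR_facts 1).2.1] at e'
      rcases qP_comm _ (aR_facts 1).1 _ (bR_facts 0).1 with hc' | hc'
      · exact bR_noncomm hc'.symm
      · rw [sq_mul_of_anti hc', eP_sq _ (aR_facts 1).2.1, (bR_facts 0).2.2.1, one_mul, mul_one] at e'
        exact (sgM_qP 0).2.2 e'
    · exact bR_noncomm (h.cross hc hL₁ hm₁ (Cfsg.Lib.Components.comp_conj hL g') hLL h1 h2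
        (hne1 _ (aR_facts 1).2.2.1 (aR_facts 1).2.2.2)).symm
  · -- all nonsingular: a line
    have hn2 : n * n = sgM 0 := (hconst n hnQ hw.2 hw1).trans hm2
    obtain ⟨i, hi⟩ := qP_even m hmQ
    obtain ⟨j, hj⟩ := qP_even n hnQ
    set a := ofN (2 * i.val)
    set b := ofN (2 * j.val)
    have hea : h.eta a = h.eta m := h.eta_eq.2 hi
    have heb : h.eta b = h.eta n := h.eta_eq.2 hj
    have haQ : qP a := h.qP_of_vec (hea ▸ hv.1)
    have hbQ : qP b := h.qP_of_vec (heb ▸ hw.1)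
    have ha2 : a * a = sgM 0 := (hconst a haQ (hea ▸ hv.2) (hea ▸ hv1)).trans hm2
    have hb2 : b * b = sgM 0 := (hconst b hbQ (heb ▸ hw.2) (heb ▸ hw1)).trans hm2
    have habL : h.eta (a * b) ∈ L := by rw [map_mul, hea, heb]; exact mul_mem hv.2 hw.2
    have hne1 : h.eta (a * b) ≠ 1 := fun e => hvw (by
      rw [map_mul, hea, heb] at e
      have h2 : h.eta m * h.eta m = 1 := by rw [← map_mul, h.eta_one.2 (qP_sq m hmQ)]
      exact mul_left_cancel (h2.trans e.symm))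
    have hab2 : a * b * (a * b) = sgM 0 := (hconst _ (qP_mul _ haQ _ hbQ) habL hne1).trans hm2
    have hnc : a * b ≠ b * a := fun e => by
      rw [sq_mul_of_comm e, ha2, hb2, eP_sq _ (sgM_eP 0)] at hab2
      exact (sgM_qP 0).2.2 hab2.symm
    obtain ⟨k, hk, hkc⟩ := line_moved i j a b rfl rfl ha2 hb2 hnc
    set c := lineW k * a * (lineW k)⁻¹ with hcdef
    have hcQ : qP c := qP_normal _ haQ _
    have hmem : h.eta c ∈ h.vec ⊓ L.map (MulAut.conj (h.eta (lineW k))).toMonoidHom := by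
      refine ⟨mem_map_of_mem _ hcQ, ⟨h.eta a, hea ▸ hv.2, ?_⟩⟩
      simp [c]
    by_cases hLL : L = L.map (MulAut.conj (h.eta (lineW k))).toMonoidHom
    · have hcL : h.eta c ∈ L := hLL.symm ▸ hmem.2
      have hne : ∀ r, inLine a b r → c ≠ r ∧ c ≠ sgM 0 * r := by
        intro r hr
        have h00 : sgM 0 * sgM 0 = 1 := eP_sq _ (sgM_eP 0)
        refine ⟨fun e => hk (e.symm ▸ hr), fun e => hk (e.symm ▸ ?_)⟩
        unfold inLine at hr ⊢
        rcases hr with e | e | e | e | e | e | e | e <;> subst e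
        · simp
        · simp [h00]
        · simp
        · rw [← mul_assoc, h00, one_mul]; simp
        · simp
        · rw [← mul_assoc, h00, one_mul]; simp
        · simp
        · rw [← mul_assoc (sgM 0), h00, one_mul]; simp
      have hc1 : h.eta c ≠ 1 := fun e => by
        rcases h.eta_one.1 e with e' | e'
        · exact (hne 1 (Or.inl rfl)).1 e'
        · exact (hne _ (Or.inr (Or.inl rfl))).1 e'
      have hc2 : c * c = sgM 0 := (hconst c hcQ hcL hc1).trans hm2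
      have anti : ∀ r, qP r → h.eta r ∈ L → inLine a b r → r * r = sgM 0 → c * r = sgM 0 * (r * c) := by
        intro r hr hrL hin hr2
        refine (qP_comm c hcQ r hr).resolve_left fun hcm => ?_
        have hne' : h.eta (c * r) ≠ 1 := fun e => by
          rw [map_mul] at e
          have h2 : h.eta r * h.eta r = 1 := by rw [← map_mul, h.eta_one.2 (qP_sq r hr)]
          have e3 : h.eta c = h.eta r := mul_right_cancel (e.trans h2.symm)
          rcases h.eta_eq.1 e3.symm with e4 | e4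
          · exact (hne r hin).1 e4
          · exact (hne r hin).2 e4
        have := hconst (c * r) (qP_mul _ hcQ _ hr) (by rw [map_mul]; exact mul_mem hcL hrL) hne'
        rw [sq_mul_of_comm hcm, hc2, hr2, eP_sq _ (sgM_eP 0), hm2] at this
        exact (sgM_qP 0).2.2 this.symm
      have ea := anti a haQ (hea ▸ hv.2) (by unfold inLine; simp) ha2
      have eb := anti b hbQ (heb ▸ hw.2) (by unfold inLine; simp) hb2
      have eab : c * (a * b) = a * b * c := by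
        rw [← mul_assoc, ea, mul_assoc, mul_assoc, eb, ← mul_assoc a, ← mdl_center (sgM 0) a rfl, mul_assoc,
          ← mul_assoc (sgM 0), eP_sq _ (sgM_eP 0), one_mul, ← mul_assoc]
      have := anti (a * b) (qP_mul _ haQ _ hbQ) habL (by unfold inLine; simp) hab2
      rw [eab] at this
      exact (sgM_qP 0).2.2 (mul_eq_right.1 this.symm)
    · have hca : a * c = c * a := h.cross hc hL hm (Cfsg.Lib.Components.comp_conj hL _) hLL
        ⟨hea ▸ hv.1, hea ▸ hv.2⟩ hmem (hea ▸ hv1)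
      have hcb : b * c = c * b := h.cross hc hL hm (Cfsg.Lib.Components.comp_conj hL _) hLL
        ⟨heb ▸ hw.1, heb ▸ hw.2⟩ hmem (heb ▸ hw1)
      exact hkc.elim (fun e => e hca.symm) (fun e => e hcb.symm)

/-- `Q` is normal. -/
theorem q_conj {q : Mdl} (hq : qP q) (g : X) : ∃ q', qP q' ∧ g * ψ q * g⁻¹ = ψ q' := by
  obtain ⟨T, hT, hc⟩ := h.exists_cfg
  have hmov : movLayer h.vec = ⊥ := sSup_eq_bot.2 fun L hL => (h.no_moved hT hc L hL.1 hL.2).elim
  have hle : normalClosure (h.vec : Set (X ⧸ h.zSub)) ≤ h.vec := by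
    rw [hc.normalClosure_eq, hmov, bot_sup_eq]
    exact inf_le_left
  obtain ⟨r, hr, e⟩ := hle (normalClosure_normal.conj_mem _ (subset_normalClosure (mem_map_of_mem h.eta hq))
    (QuotientGroup.mk' h.zSub g))
  have e' : QuotientGroup.mk' h.zSub (ψ r) = QuotientGroup.mk' h.zSub (g * ψ q * g⁻¹) := by
    rw [map_mul, map_mul, map_inv]; exact e
  rw [QuotientGroup.mk'_apply, QuotientGroup.mk'_apply, QuotientGroup.eq, h.mem_zSub, inv_mul_eq_one,
    inv_mul_eq_iff_eq_mul, ← map_mul] at e'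
  rcases e' with e' | e'
  · exact ⟨r, hr, e'.symm⟩
  · exact ⟨_, qP_mul _ hr _ (by decide +kernel), e'⟩

/-- The centraliser of `t` normalises `E`. -/
theorem e_conj {g : X} (hg : g * ψ (sgM 1) = ψ (sgM 1) * g) {a : Mdl} (ha : eP a) :
    ∃ a', eP a' ∧ g * ψ a * g⁻¹ = ψ a' := by
  have ht : g * ψ (sgM 1) * g⁻¹ = ψ (sgM 1) := by rw [hg, mul_inv_cancel_right]
  have key : ∀ a, eP a → qP a → ∃ a', eP a' ∧ g * ψ a * g⁻¹ = ψ a' := by
    intro a ha hq
    obtain ⟨c, hc⟩ := eq_comm_sgM a ha hq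
    have hcQ : qP (ofN c.val) := show c.val % 1024 < 128 by omega
    obtain ⟨r, -, hrg⟩ := h.q_conj hcQ g
    have hE : eP (r * sgM 1 * r⁻¹ * sgM 1) := eP_mul _ (eP_normal _ (sgM_eP 1) r) _ (sgM_eP 1)
    have e1 : g * ψ (ofN c.val * sgM 1 * (ofN c.val)⁻¹ * sgM 1) * g⁻¹ = ψ (r * sgM 1 * r⁻¹ * sgM 1) := by
      simp only [map_mul, map_inv]
      calc g * (ψ (ofN c.val) * ψ (sgM 1) * (ψ (ofN c.val))⁻¹ * ψ (sgM 1)) * g⁻¹
          = (g * ψ (ofN c.val) * g⁻¹) * (g * ψ (sgM 1) * g⁻¹) * (g * ψ (ofN c.val) * g⁻¹)⁻¹ *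
            (g * ψ (sgM 1) * g⁻¹) := by group
        _ = _ := by rw [hrg, ht]
    rcases hc with rfl | rfl
    · exact ⟨_, hE, e1⟩
    · refine ⟨_, eP_mul _ (sgM_eP 0) _ hE, ?_⟩
      rw [map_mul ψ (sgM 0), map_mul ψ (sgM 0), ← e1]
      calc g * (ψ (sgM 0) * ψ (ofN c.val * sgM 1 * (ofN c.val)⁻¹ * sgM 1)) * g⁻¹
          = (g * ψ (sgM 0) * g⁻¹) * (g * ψ (ofN c.val * sgM 1 * (ofN c.val)⁻¹ * sgM 1) * g⁻¹) := by group
        _ = _ := by rw [h.z_conj]
  by_cases hq : qP a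
  · exact key a ha hq
  have hq' : qP (a * sgM 1) := by
    rcases top_quaternion a hq with e | e
    · rwa [eP_comm _ ha _ (sgM_eP 1)]
    · rw [eP_sq a ha, mul_one] at e
      exact absurd ((sgM_qP 1).1.1 e) (by decide)
  obtain ⟨b, hb, hbe⟩ := key (a * sgM 1) (eP_mul _ ha _ (sgM_eP 1)) hq'
  refine ⟨b * sgM 1, eP_mul _ hb _ (sgM_eP 1), ?_⟩
  rw [map_mul, ← hbe, map_mul]
  calc g * ψ a * g⁻¹ = g * ψ a * (ψ (sgM 1) * ψ (sgM 1)) * g⁻¹ := by
        rw [← map_mul, eP_sq _ (sgM_eP 1), map_one, mul_one]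
    _ = g * (ψ a * ψ (sgM 1)) * g⁻¹ * (g * ψ (sgM 1) * g⁻¹) := by group
    _ = _ := by rw [ht]

end ZSet

end Cfsg.Lib.UFiveType
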