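import Cfsg.Agent.UFiveType.Classes
import Cfsg.Agent.UFiveType.ZNormal
import Cfsg.Agent.Walter.RankThree.Basic
import Cfsg.Agent.InvolCalc.Dihedral

/-!
# The centraliser of the central involution in the group
-/

set_option autoImplicit false
set_option linter.style.haveILetI false
set_option linter.unusedSectionVars false
set_option synthInstance.maxSize 1024
set_option maxRecDepth 100000

namespace Cfsg.Lib.UFiveType

open Subgroup
open Cfsg.Lib.Walter (Oc)

universe u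

variable {G : Type u} [Group G] [Finite G] {φ : Mdl →* G}

theorem outside_invol : ∀ m, eP m → ¬ qP m → ∃ i : Fin 5, i ≠ 0 ∧ (m = sgM i ∨ m = sgM 0 * sgM i) := by
  simp only [forall_eP]
  decide +kernel

theorem qr_self : ∀ q, qP q → (∀ d : Fin 128, rP (ofN d.val) → q * ofN d.val = ofN d.val * q) →
    rP q ∧ q * q = 1 := by
  simp only [forall_qP]
  decide +kernel

theorem bq_self : ∀ q, qP q → ∀ k : Fin 3, (∀ d : Fin 128, ofN d.val * bR k = bR k * ofN d.val →
    q * ofN d.val = ofN d.val * q) → q * bR k = bR k * q ∧ q * q = 1 := by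
  simp only [forall_qP]
  decide +kernel

theorem cent_qM : ∀ m : Mdl, (∀ i : Fin 7, m * ofN (2 ^ i.val) = ofN (2 ^ i.val) * m) → m = 1 ∨ m = sgM 0 := by
  rw [forall_mdl]
  decide +kernel

/-- Involutions congruent modulo a subgroup of odd order are conjugate under it. -/
theorem conj_of_mod {N : Subgroup G} (hN : Odd (Nat.card N)) {x y : G} (hx : orderOf x = 2) (hy : orderOf y = 2)
    (hxy : x * y ∈ N) : ∃ o ∈ N, o * x * o⁻¹ = y := by
  obtain ⟨k, hk⟩ := Odd.of_dvd_nat hN (Subgroup.orderOf_dvd_natCard N hxy)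
  refine ⟨(x * y) ^ (k : ℤ), zpow_mem hxy _, ?_⟩
  rw [InvolCalc.conj_rot hx hy]
  conv_rhs => rw [InvolCalc.snd_eq' hx hy]
  congr 1
  rw [← mul_inv_eq_one, ← zpow_neg, ← zpow_add, show (2 * (k : ℤ) + - -1) = ((orderOf (x * y) : ℕ) : ℤ) by
    rw [hk]; push_cast; ring, zpow_natCast, pow_orderOf_eq_one]

/-- An element of odd order fixes what its square fixes. -/
theorem commute_of_sq {x y : G} (ho : Odd (orderOf x)) (h : Commute (x * x) y) : Commute x y := by
  obtain ⟨k, hk⟩ := ho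
  have e : x = (x * x) ^ (k + 1) := by
    rw [← pow_two, ← pow_mul, show 2 * (k + 1) = orderOf x + 1 by omega, pow_succ, pow_orderOf_eq_one, one_mul]
  rw [e]
  exact h.pow_left _

theorem odd_card_pPrimeCore_of (C : Subgroup G) :
    Odd (Nat.card ((Cfsg.pPrimeCore 2 C).map C.subtype)) := by
  rw [card_map_of_injective C.subtype_injective]
  exact ZStarApps.odd_card_pPrimeCore

/-- An element of a 2-group lying in a subgroup of odd order is trivial. -/
theorem eq_one_of_two {S N : Subgroup G} (hS : IsPGroup 2 S) (hN : Odd (Nat.card N)) {x : G} (hxS : x ∈ S)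
    (hxN : x ∈ N) : x = 1 := by
  obtain ⟨k, hk⟩ := hS ⟨x, hxS⟩
  have h2 : x ^ 2 ^ k = 1 := congrArg Subtype.val hk
  have hodd : Odd (orderOf x) := Odd.of_dvd_nat hN (Subgroup.orderOf_dvd_natCard N hxN)
  obtain ⟨j, -, hj⟩ := (Nat.dvd_prime_pow Nat.prime_two).1 (orderOf_dvd_of_pow_eq_one h2)
  rcases j with _ | j
  · exact orderOf_eq_one_iff.1 hj
  · rw [hj] at hodd
    exact absurd hodd (Nat.not_odd_iff_even.2 ((Nat.even_pow).2 ⟨even_two, by omega⟩))

namespace Frame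

variable (h : Frame φ)
include h

theorem odd_oc (x : G) : Odd (Nat.card (Oc x)) := Walter.R3.odd_oc x

/-- The model in the centraliser modulo its core. -/
def toX : Mdl →* cU φ ⧸ Cfsg.pPrimeCore 2 (cU φ) :=
  (QuotientGroup.mk' _).comp (φ.codRestrict (cU φ) fun m => h.range_le_cU ⟨m, rfl⟩)

theorem toX_apply (m : Mdl) :
    h.toX m = QuotientGroup.mk' (Cfsg.pPrimeCore 2 (cU φ)) ⟨φ m, h.range_le_cU ⟨m, rfl⟩⟩ := rfl

theorem mk_eq_iff {a b : cU φ} : QuotientGroup.mk' (Cfsg.pPrimeCore 2 (cU φ)) a = QuotientGroup.mk' _ b ↔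
    (a : G)⁻¹ * b ∈ Oc (zU φ) := by
  rw [QuotientGroup.mk'_apply, QuotientGroup.mk'_apply, QuotientGroup.eq]
  exact ⟨fun hh => ⟨_, hh, rfl⟩, fun ⟨w, hw, e⟩ => by
    rwa [show a⁻¹ * b = w from Subtype.ext e.symm]⟩

theorem toX_injective : Function.Injective h.toX := by
  refine (injective_iff_map_eq_one _).2 fun m hm => h.inj ?_
  rw [map_one]
  rw [toX_apply, QuotientGroup.mk'_apply, QuotientGroup.eq_one_iff] at hm
  exact eq_one_of_two h.isPGroup (odd_card_pPrimeCore_of (cU φ)) ⟨m, rfl⟩ ⟨_, hm, rfl⟩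

variable [IsSimpleGroup G]

/-- An involution of `Q` other than the centre is conjugate to `a` in the centraliser. -/
theorem q_invol_conj {q : Mdl} (hq : qP q) (hq2 : q * q = 1) (h1 : q ≠ 1) (hz : q ≠ sgM 0) :
    ∃ c ∈ cU φ, c * aU φ * c⁻¹ = φ q := by
  rcases invol_class q hq2 with e | e | ⟨i, w, rfl⟩
  · exact absurd e h1
  · exact absurd e hz
  have hrep : ∃ c ∈ cU φ, c * aU φ * c⁻¹ = φ (iRep i) := by
    rcases rep_qP i ((qP_conj_iff _).1 hq) with ⟨l, e⟩ | ⟨l, e⟩ <;> rw [e]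
    exacts [h.aR_conj l, h.bR_conj l]
  obtain ⟨c, hc, e⟩ := hrep
  refine ⟨φ (conjW w) * c, mul_mem (h.range_le_cU ⟨_, rfl⟩) hc, ?_⟩
  rw [map_mul, map_mul, map_inv, ← e]
  group

theorem zset : ZSet h.toX := by
  haveI : Fact (Nat.Prime 2) := ⟨Nat.prime_two⟩
  obtain ⟨S, hS⟩ := h.sylow
  set C := cU φ
  set π := QuotientGroup.mk' (Cfsg.pPrimeCore 2 C)
  have hSC : (S : Subgroup G) ≤ C := hS ▸ h.range_le_cU
  refine ⟨⟨h.toX_injective, (S.subtype hSC).mapSurjective (QuotientGroup.mk'_surjective _), ?_⟩,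
    Cfsg.Lib.Components.pPrimeCore_quotient_eq_bot, ?_, ?_, ?_⟩
  · ext x
    constructor
    · rintro ⟨c, hc, rfl⟩
      have hc' : (c : G) ∈ (S : Subgroup G) := hc
      rw [hS] at hc'
      obtain ⟨m, hm⟩ := hc'
      exact ⟨m, congrArg π (Subtype.ext hm)⟩
    · rintro ⟨m, rfl⟩
      exact ⟨⟨φ m, h.range_le_cU ⟨m, rfl⟩⟩, show φ m ∈ (S : Subgroup G) from hS ▸ ⟨m, rfl⟩, rfl⟩
  · rw [mem_center_iff]
    intro x
    obtain ⟨c, rfl⟩ := QuotientGroup.mk'_surjective _ x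
    rw [toX_apply, ← map_mul, ← map_mul]
    exact congrArg π (Subtype.ext (mem_centralizer_singleton_iff.1 c.2))
  · intro m q hm hq hm2 hq2 hc
    obtain ⟨g, hg⟩ := isConj_iff.1 hc
    obtain ⟨c, rfl⟩ := QuotientGroup.mk'_surjective _ g
    rw [toX_apply, toX_apply, ← map_inv, ← map_mul, ← map_mul] at hg
    have hmE : eP m := (invol_cases m hm2).resolve_right hm
    have hm1 : m ≠ 1 := fun e => hm (e ▸ qP_one)
    have hmz : m ≠ sgM 0 := fun e => hm (e ▸ (sgM_qP 0).1.2 rfl)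
    have hmem := (h.mk_eq_iff).1 hg
    have hm_ord := h.order_two hm2 hm1
    by_cases hq1 : q = 1
    · subst hq1
      simp only [Subgroup.coe_mul, Subgroup.coe_inv, map_one, mul_one, mul_inv_cancel, inv_one, one_mul] at hmem
      exact hm1 (h.inj (by rw [map_one]; exact eq_one_of_two h.isPGroup (h.odd_oc _) ⟨m, rfl⟩ hmem))
    have hq_ord := h.order_two hq2 hq1
    set y := (c : G) * φ q * (c : G)⁻¹
    have hy_ord : orderOf y = 2 := (MulEquiv.orderOf_eq (MulAut.conj (c : G)) (φ q)).trans hq_ord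
    have hymem : y * φ m ∈ Oc (zU φ) := by
      have : y⁻¹ * φ m ∈ Oc (zU φ) := hmem
      rwa [InvolCalc.inv_of_order_two hy_ord] at this
    obtain ⟨o, ho, hoe⟩ := conj_of_mod (h.odd_oc _) hy_ord hm_ord hymem
    have hoC : o ∈ C := Cfsg.Lib.Components.centralizerPPrimeCore_le_centralizer _ ho
    set d := o * (c : G)
    have hd : d * φ q * d⁻¹ = φ m := by rw [← hoe]; simp only [d, y]; group
    have hdz : d * zU φ * d⁻¹ = zU φ := by
      rw [mem_centralizer_singleton_iff.1 (mul_mem hoC c.2 : d ∈ C), mul_inv_cancel_right]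
    by_cases hqz : q = sgM 0
    · subst hqz
      exact hmz (h.inj (hd.symm.trans hdz))
    have haB : ∀ r, qP r → r * r = 1 → r ≠ 1 → r ≠ sgM 0 → ¬ IsConj (zU φ) (φ r) := fun r h1 h2 h3 h4 hzr => by
      obtain ⟨e, -, he⟩ := h.q_invol_conj h1 h2 h3 h4
      exact h.aR_not_conj 0 (hzr.trans (isConj_iff.2 ⟨e, he⟩).symm)
    obtain ⟨i, hi, e | e⟩ := outside_invol m hmE hm
    · refine haB q hq hq2 hq1 hqz ?_
      exact (h.five_conj i).trans (isConj_iff.2 ⟨d⁻¹, by rw [sgU, ← e, ← hd]; group⟩)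
    · have hzq2 : sgM 0 * q * (sgM 0 * q) = 1 := by
        rw [(show Commute (sgM 0) q from mdl_center _ q rfl).symm.mul_mul_mul_comm, hq2,
          eP_sq _ (sgM_eP 0), one_mul]
      refine haB (sgM 0 * q) (qP_mul _ ((sgM_qP 0).1.2 rfl) _ hq) hzq2 (fun e' => hqz ?_) (fun e' => hq1 ?_) ?_
      · exact (mul_left_cancel ((eP_sq _ (sgM_eP 0)).trans e'.symm)).symm
      · exact mul_eq_left.1 e'
      · refine (h.five_conj i).trans (isConj_iff.2 ⟨d⁻¹, ?_⟩)
        have e2 : sgM i = sgM 0 * m := by rw [e, ← mul_assoc, eP_sq _ (sgM_eP 0), one_mul]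
        rw [sgU, e2, map_mul, map_mul, ← hd, inv_inv]
        show d⁻¹ * (zU φ * (d * φ q * d⁻¹)) * d = zU φ * φ q
        conv_lhs => rw [← hdz]
        group
  · intro k
    constructor
    · obtain ⟨c, hc, e⟩ := h.aR_conj k
      exact isConj_iff.2 ⟨π ⟨c, hc⟩, by
        rw [toX_apply, toX_apply, ← map_inv, ← map_mul, ← map_mul]; exact congrArg π (Subtype.ext e)⟩
    · obtain ⟨c, hc, e⟩ := h.bR_conj k
      exact isConj_iff.2 ⟨π ⟨c, hc⟩, by
        rw [toX_apply, toX_apply, ← map_inv, ← map_mul, ← map_mul]; exact congrArg π (Subtype.ext e)⟩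

/-- `Q` modulo the core. -/
theorem q_mod {c : G} (hc : c ∈ cU φ) {q : Mdl} (hq : qP q) :
    ∃ q', qP q' ∧ (φ q')⁻¹ * (c * φ q * c⁻¹) ∈ Oc (zU φ) := by
  obtain ⟨q', hq', e⟩ := h.zset.q_conj hq (QuotientGroup.mk' _ ⟨c, hc⟩)
  rw [toX_apply, toX_apply, ← map_inv, ← map_mul, ← map_mul] at e
  exact ⟨q', hq', (h.mk_eq_iff).1 e.symm⟩

/-- `E` modulo the core. -/
theorem e_mod {c : G} (hc : c ∈ cU φ) (hct : c * sgU φ 1 = sgU φ 1 * c) {a : Mdl} (ha : eP a) :
    ∃ a', eP a' ∧ (φ a')⁻¹ * (c * φ a * c⁻¹) ∈ Oc (zU φ) := by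
  obtain ⟨a', ha', e⟩ := h.zset.e_conj (g := QuotientGroup.mk' _ ⟨c, hc⟩) (by
    rw [toX_apply, ← map_mul, ← map_mul]; exact congrArg _ (Subtype.ext hct)) ha
  rw [toX_apply, toX_apply, ← map_inv, ← map_mul, ← map_mul] at e
  exact ⟨a', ha', (h.mk_eq_iff).1 e.symm⟩

/-- An odd subgroup of the centraliser normalised by a self-centralising part of `Q` lies in the core. -/
theorem le_core_z {X : Subgroup G} {D : Subgroup Mdl} (hDQ : D ≤ qM)
    (hself : ∀ q, qP q → (∀ d ∈ D, q * d = d * q) → q ∈ D ∧ q * q = 1) (hX : X ≤ cU φ)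
    (hodd : Odd (Nat.card X)) (hn : D.map φ ≤ normalizer (X : Set G)) : X ≤ Oc (zU φ) := by
  intro x hx
  have H := h.zset
  set π := QuotientGroup.mk' (Cfsg.pPrimeCore 2 (cU φ))
  set g := π ⟨x, hX hx⟩ with hg
  set X' := (X.subgroupOf (cU φ)).map π with hX'
  have hX'odd : Odd (Nat.card X') := hodd.of_dvd_nat ((card_map_dvd _ _).trans
    (card_comap_dvd_of_injective _ _ (cU φ).subtype_injective))
  have hfix : ∀ d ∈ D, g * h.toX d * g⁻¹ = h.toX d := by
    intro d hd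
    obtain ⟨d', -, e⟩ := H.q_conj (hDQ hd) g
    rw [e]
    have hmem : h.toX (d' * d⁻¹) ∈ X' := by
      rw [map_mul, map_inv, ← e]
      refine ⟨⟨x * φ d * x⁻¹ * (φ d)⁻¹, mul_mem (mul_mem (mul_mem (hX hx) (h.range_le_cU ⟨d, rfl⟩))
        (inv_mem (hX hx))) (inv_mem (h.range_le_cU ⟨d, rfl⟩))⟩, ?_, ?_⟩
      · show x * φ d * x⁻¹ * (φ d)⁻¹ ∈ X
        rw [show x * φ d * x⁻¹ * (φ d)⁻¹ = x * (φ d * x⁻¹ * (φ d)⁻¹) by group]
        exact mul_mem hx ((mem_normalizer_iff.1 (hn ⟨d, hd, rfl⟩) _).1 (inv_mem hx))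
      · rw [hg, toX_apply, ← map_inv π, ← map_inv π, ← map_mul π, ← map_mul π, ← map_mul π]
        rfl
    have h1 := eq_one_of_two H.frame.isPGroup hX'odd ⟨_, rfl⟩ hmem
    rw [map_mul, map_inv, mul_inv_eq_one] at h1
    exact h1
  have hgodd : Odd (orderOf g) :=
    hX'odd.of_dvd_nat (Subgroup.orderOf_dvd_natCard X' ⟨_, hx, rfl⟩)
  have hall : ∀ y, qP y → g * h.toX y = h.toX y * g := by
    intro y hy
    obtain ⟨y', hy', e⟩ := H.q_conj hy g
    obtain ⟨hwD, hw2⟩ := hself (y⁻¹ * y') (qP_mul _ (qP_inv _ hy) _ hy') fun d hd => by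
      have hdy : y * d = d * y ∨ y * d = sgM 0 * (d * y) := qP_comm y hy d (hDQ hd)
      have key : y' * d = d * y' ↔ y * d = d * y := by
        have ed := hfix d hd
        rw [← H.frame.inj.eq_iff, ← H.frame.inj.eq_iff (a := y * d), map_mul, map_mul, map_mul, map_mul, ← e]
        conv_lhs => rw [← ed]
        rw [show g * h.toX y * g⁻¹ * (g * h.toX d * g⁻¹) = g * (h.toX y * h.toX d) * g⁻¹ by group,
          show g * h.toX d * g⁻¹ * (g * h.toX y * g⁻¹) = g * (h.toX d * h.toX y) * g⁻¹ by group]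
        simp
      rcases hdy with e' | e'
      · exact ((show Commute y d from e').inv_left.mul_left (show Commute y' d from key.2 e')).eq
      · have hne : ¬ y * d = d * y := fun e'' =>
          (sgM_qP 0).2.2 (mul_eq_right.1 (e'.symm.trans e''))
        have e4 := (qP_comm y' hy' d (hDQ hd)).resolve_left fun e3 => hne (key.1 e3)
        have hz : ∀ m : Mdl, m * sgM 0 = sgM 0 * m := fun m => (mdl_center _ m rfl).symm
        calc y⁻¹ * y' * d = y⁻¹ * (y' * d) := by group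
          _ = y⁻¹ * (sgM 0 * (d * y')) := by rw [e4]
          _ = (y⁻¹ * sgM 0) * (d * y') := by group
          _ = sgM 0 * y⁻¹ * (d * y') := by rw [hz]
          _ = y⁻¹ * (sgM 0 * (d * y)) * (y⁻¹ * y') := by rw [← mul_assoc y⁻¹, hz]; group
          _ = y⁻¹ * (y * d) * (y⁻¹ * y') := by rw [← e']
          _ = d * (y⁻¹ * y') := by group
    obtain ⟨w, rfl⟩ : ∃ w, y' = y * w := ⟨y⁻¹ * y', by group⟩
    rw [inv_mul_cancel_left] at hwD hw2
    have hw := hfix _ hwD
    have e2 : g * g * h.toX y * (g * g)⁻¹ = h.toX y := by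
      rw [map_mul] at e
      rw [show g * g * h.toX y * (g * g)⁻¹ = g * (g * h.toX y * g⁻¹) * g⁻¹ by group, e,
        show g * (h.toX y * h.toX w) * g⁻¹ = g * h.toX y * g⁻¹ * (g * h.toX w * g⁻¹) by group,
        e, hw, mul_assoc, ← map_mul, hw2, map_one, mul_one]
    exact commute_of_sq hgodd (mul_inv_eq_iff_eq_mul.1 e2)
  -- the centraliser of `Q` is the centre
  set K := centralizer ((qM.map h.toX : Subgroup _) : Set (cU φ ⧸ Cfsg.pPrimeCore 2 (cU φ))) with hK
  have hKn : K.Normal := ⟨fun k hk c => mem_centralizer_iff.2 (by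
    rintro _ ⟨q, hq, rfl⟩
    obtain ⟨q', hq', e⟩ := H.q_conj hq c⁻¹
    have h1 := mem_centralizer_iff.1 hk _ (mem_map_of_mem h.toX hq')
    rw [← e, inv_inv] at h1
    calc h.toX q * (c * k * c⁻¹) = c * (c⁻¹ * h.toX q * c * k) * c⁻¹ := by group
      _ = c * (k * (c⁻¹ * h.toX q * c)) * c⁻¹ := by rw [h1]
      _ = _ := by group)⟩
  obtain ⟨T, hT, hc⟩ := H.exists_cfg
  set η := QuotientGroup.mk' H.zSub
  haveI : (K.map η).Normal := hKn.map η (QuotientGroup.mk'_surjective _)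
  have hKT : K.map η ⊓ (T : Subgroup _) = ⊥ := by
    rw [eq_bot_iff]
    rintro _ ⟨⟨k, hk, rfl⟩, hk2⟩
    rw [hT] at hk2
    obtain ⟨m, hm⟩ := hk2
    have hm' : η (h.toX m) = η k := hm
    rw [QuotientGroup.mk'_apply, QuotientGroup.mk'_apply, QuotientGroup.eq] at hm'
    have hmK : h.toX m ∈ K := by
      have h2 : (h.toX m)⁻¹ * k ∈ K := mem_centralizer_iff.2 fun q _ =>
        mem_center_iff.1 (H.zSub_le hm') q
      have := mul_mem hk (inv_mem h2)
      simpa using this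
    have hm1 := cent_qM m fun i => H.frame.inj (by
      rw [map_mul, map_mul]
      exact (mem_centralizer_iff.1 hmK _ (mem_map_of_mem h.toX (qP_bit i))).symm)
    rw [mem_bot, ← hm]
    exact (H.eta_one).2 hm1
  have hKodd : Odd (Nat.card (K.map η)) := by
    have h1 := Cfsg.Lib.ProdFusion.odd_relIndex_normal T (K.map η)
    rwa [← inf_relIndex_right, inf_comm, hKT, relIndex_bot_left] at h1
  have hbot : K.map η ≤ ⊥ := hc.core ▸ Cfsg.Lib.Components.le_pPrimeCore (Nat.coprime_two_right.2 hKodd)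
  have hgK : g ∈ K := mem_centralizer_iff.2 (by rintro _ ⟨q, hq, rfl⟩; exact (hall q hq).symm)
  have hgz : g = 1 ∨ g = h.toX (sgM 0) :=
    H.mem_zSub.1 ((QuotientGroup.eq_one_iff g).1 (mem_bot.1 (hbot (mem_map_of_mem η hgK))))
  have hg1 : g = 1 := hgz.resolve_right fun e => by
    rw [e, H.frame.order_two (eP_sq _ (sgM_eP 0)) (sgM_qP 0).2.2] at hgodd
    exact absurd hgodd (by decide)
  rw [hg, QuotientGroup.mk'_apply, QuotientGroup.eq_one_iff] at hg1
  exact ⟨_, hg1, rfl⟩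

end Frame

end Cfsg.Lib.UFiveType
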