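import Cfsg.Agent.UFiveType.Cent

/-!
# The centraliser of the second class

The centraliser of an involution of the second class in `E` is its core times the part normalising `E`.
-/

set_option autoImplicit false
set_option linter.style.haveILetI false
set_option linter.unusedSectionVars false
set_option synthInstance.maxSize 1024
set_option maxRecDepth 100000

namespace Cfsg.Lib.UFiveType

open Subgroup
open Cfsg.Lib.Walter (Oc)
open Cfsg.Lib.GW (Core core_le le_normalizer_core)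
open Cfsg.Lib.Coprime (card_sup_mul_card_inf le_normalizer_sup le_normalizer_inf)

universe u

variable {G : Type u} [Group G] [Finite G] {φ : Mdl →* G}

theorem x_mul_a : sgM 3 * aR 0 = sgM 4 ∧ v4 1 3 = 4 ∧ v4 1 0 = 0 := by decide +kernel

theorem pair_34 : ∀ i j : Fin 5, i ≠ j → sgM i * sgM j = aR 0 → i = 3 ∨ i = 4 := by decide +kernel

theorem split_sup {A N : Subgroup G} (hA : A ≤ normalizer (N : Set G)) {x : G} (hx : x ∈ A ⊔ N) :
    ∃ a ∈ A, ∃ n ∈ N, a * n = x := by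
  rw [← SetLike.mem_coe, coe_mul_of_left_le_normalizer_right A N hA] at hx
  exact Set.mem_mul.1 hx

theorem two_cases {a w : G} (ha : a * a = 1) (hw : w ∈ zpowers a) : w = 1 ∨ w = a := by
  obtain ⟨i, rfl⟩ := mem_zpowers_iff.1 hw
  rcases Int.even_or_odd' i with ⟨j, rfl | rfl⟩
  · exact Or.inl (by rw [zpow_mul, zpow_ofNat, pow_two, ha, one_zpow])
  · exact Or.inr (by rw [zpow_add_one, zpow_mul, zpow_ofNat, pow_two, ha, one_zpow, one_mul])

/-- An element isolated modulo a central involution is central modulo that involution and the core. -/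
theorem mod_central {H : Type u} [Group H] [Finite H] {a x : H} (ha : a ∈ center H) (ha2 : a * a = 1)
    [hn : (zpowers a).Normal] {n : ℕ} (hx : orderOf x ∣ 2 ^ n)
    (hI : ZStarApps.Isolated2 (QuotientGroup.mk' (zpowers a) x)) (g : H) :
    g * x * g⁻¹ * x⁻¹ ∈ Cfsg.pPrimeCore 2 H ∨ g * x * g⁻¹ * x⁻¹ * a ∈ Cfsg.pPrimeCore 2 H := by
  haveI : Fact (Nat.Prime 2) := ⟨Nat.prime_two⟩
  set π := QuotientGroup.mk' (Cfsg.pPrimeCore 2 H)
  set Z := (zpowers a).map π
  haveI : Z.Normal := hn.map π (QuotientGroup.mk'_surjective _)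
  have hZc : Z ≤ center _ := by
    rintro _ ⟨w, hw, rfl⟩
    rw [mem_center_iff]
    intro y
    obtain ⟨y, rfl⟩ := QuotientGroup.mk'_surjective _ y
    rw [← map_mul, ← map_mul, mem_center_iff.1 (zpowers_le.2 ha hw) y]
  have hZ2 : IsPGroup 2 Z := by
    refine IsPGroup.map ?_ π
    rintro ⟨w, hw⟩
    exact ⟨1, Subtype.ext (by
      show w ^ 2 ^ 1 = 1
      rcases two_cases ha2 hw with rfl | rfl <;> simp [pow_two, ha2])⟩
  have hbot := Cfsg.Lib.AbelianSylowTwoInner.pPrimeCore_quotient_eq_bot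
    (Cfsg.Lib.Components.pPrimeCore_quotient_eq_bot (p := 2) (G := H)) Z hZc hZ2
  set ρ := (QuotientGroup.mk' Z).comp π
  set ψ := QuotientGroup.lift (zpowers a) ρ fun w hw => (QuotientGroup.eq_one_iff _).2 (mem_map_of_mem π hw)
  set L := Cfsg.pPrimeCore 2 (H ⧸ zpowers a)
  have hψ : Function.Surjective ψ := fun y => by
    obtain ⟨y, rfl⟩ := QuotientGroup.mk'_surjective Z y
    obtain ⟨y, rfl⟩ := QuotientGroup.mk'_surjective _ y
    exact ⟨QuotientGroup.mk' (zpowers a) y, rfl⟩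
  haveI : (L.map ψ).Normal := (inferInstance : L.Normal).map ψ hψ
  have hodd : Odd (Nat.card (L.map ψ)) := ZStarApps.odd_card_pPrimeCore.of_dvd_nat (card_map_dvd _ _)
  have hle : L.map ψ ≤ ⊥ := hbot ▸ Cfsg.Lib.Components.le_pPrimeCore (Nat.coprime_two_right.2 hodd)
  have h1 := ZStarApps.central_of_isolated2 n _ ((orderOf_map_dvd _ x).trans hx) hI (QuotientGroup.mk' _ g)
  rw [← map_inv, ← map_inv, ← map_mul, ← map_mul, ← map_mul] at h1
  have h2 : ρ (g * x * g⁻¹ * x⁻¹) = 1 := mem_bot.1 (hle ⟨_, h1, rfl⟩)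
  obtain ⟨w, hw, e⟩ := (QuotientGroup.eq_one_iff _).1 h2
  replace e : w⁻¹ * (g * x * g⁻¹ * x⁻¹) ∈ Cfsg.pPrimeCore 2 H := QuotientGroup.eq.1 e
  rcases two_cases ha2 hw with rfl | rfl
  · exact Or.inl (by simpa using e)
  · refine Or.inr ?_
    rwa [inv_eq_of_mul_eq_one_right ha2, ← mem_center_iff.1 ha] at e

/-- A normaliser normalises the core. -/
theorem conj_core {D : Subgroup G} {k : G} (hk : ∀ d ∈ D, k * d * k⁻¹ ∈ D) :
    k ∈ normalizer (Core D : Set G) := by
  refine ZStarApps.mem_normalizer_of_maps fun y hy => ?_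
  set K := (Core D).map (MulAut.conj k).toMonoidHom
  have hle : K ≤ Core D := by
    refine Walter.R3.le_core ?_ ?_ ?_
    · rintro _ ⟨d, hd, rfl⟩
      exact hk d (core_le D hd)
    · intro d hd
      have hd' : k⁻¹ * d * k ∈ D := by
        have h1 := ZStarApps.mem_normalizer_of_maps hk
        simpa using (mem_normalizer_iff''.1 h1 d).1 hd
      refine ZStarApps.mem_normalizer_of_maps ?_
      rintro _ ⟨y, hy, rfl⟩
      refine ⟨_, (mem_normalizer_iff.1 (le_normalizer_core D hd') y).1 hy, ?_⟩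
      simp only [MulEquiv.coe_toMonoidHom, MulAut.conj_apply]
      group
    · rw [card_map_of_injective (MulAut.conj k).injective]
      exact Cfsg.Lib.GW.Frame.odd_card_core D
  exact hle ⟨y, hy, rfl⟩

theorem odd_sup {A B : Subgroup G} (hA : Odd (Nat.card A)) (hB : Odd (Nat.card B))
    (hn : A ≤ normalizer (B : Set G)) : Odd (Nat.card ↥(A ⊔ B : Subgroup G)) := by
  have h1 := card_sup_mul_card_inf (N := B) (H := A) hn
  have h2 : Odd (Nat.card ↥(B ⊔ A : Subgroup G) * Nat.card ↥(B ⊓ A : Subgroup G)) := h1 ▸ hB.mul hA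
  rw [sup_comm]
  exact (Nat.odd_mul.1 h2).1

namespace Frame

variable (h : Frame φ)
include h

theorem mem_norm_of_range {k : G} (hk : ∀ x ∈ eU φ, k * x * k⁻¹ ∈ φ.range) :
    k ∈ normalizer (eU φ : Set G) := by
  have e : (eU φ).map (MulAut.conj k).toMonoidHom = eU φ := by
    refine h.weakly_closed ?_ ?_ ?_ ?_
    · rintro _ ⟨x, hx, rfl⟩; exact hk x hx
    · rintro _ ⟨x, hx, rfl⟩; rw [← map_mul, h.eU_sq hx, map_one]
    · rintro _ ⟨x, hx, rfl⟩ _ ⟨y, hy, rfl⟩; rw [← map_mul, ← map_mul, h.eU_comm hx hy]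
    · rw [card_map_of_injective (MulAut.conj k).injective, h.card_eU]
  exact ZStarApps.mem_normalizer_of_maps fun x hx => e ▸ ⟨x, hx, rfl⟩

theorem exists_mul_mem_norm {O : Subgroup G} (hn : φ.range ≤ normalizer (O : Set G)) {c : G}
    (hc : ∀ x ∈ eU φ, c * x * c⁻¹ ∈ φ.range ⊔ O) : ∃ o ∈ O, o * c ∈ normalizer (eU φ : Set G) := by
  set V := (eU φ).map (MulAut.conj c).toMonoidHom
  have hVH : V ≤ φ.range ⊔ O := by
    rintro _ ⟨x, hx, rfl⟩
    exact hc x hx
  obtain ⟨g, hg, hgv⟩ := h.into_range ((h.isPGroup.to_le (map_le_range φ eM)).map _ : IsPGroup 2 V) hVH le_sup_left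
  obtain ⟨s, hs, o, ho, rfl⟩ := split_sup hn hg
  refine ⟨o, ho, h.mem_norm_of_range fun x hx => ?_⟩
  have h1 := mul_mem (mul_mem (inv_mem hs) (hgv _ ⟨x, hx, rfl⟩)) hs
  convert h1 using 1
  simp only [MulEquiv.coe_toMonoidHom, MulAut.conj_apply]
  group

/-- An element of `E` normalised modulo an odd subgroup. -/
theorem eq_one_of_mem_eU {O : Subgroup G} (hO : Odd (Nat.card O)) {x : G} (hx : x ∈ eU φ) (hxO : x ∈ O) :
    x = 1 :=
  eq_one_of_two h.isPGroup hO (map_le_range φ eM hx) hxO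

variable [IsSimpleGroup G]

/-- The centraliser of two of the five, up to the core, normalises `E`. -/
theorem cent_t {c : G} (hc : c ∈ cU φ) (hct : Commute c (sgU φ 1)) :
    ∃ o ∈ Oc (zU φ), Commute o (sgU φ 1) ∧ o * c ∈ normalizer (eU φ : Set G) := by
  have hR : φ.range ≤ normalizer (Oc (zU φ) : Set G) := h.range_le_cU.trans (Walter.R3.oc_norm _)
  obtain ⟨o, ho, hn⟩ := h.exists_mul_mem_norm hR (c := c) (by
    rintro _ ⟨a, ha, rfl⟩
    obtain ⟨a', -, hm⟩ := h.e_mod hc hct.eq ha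
    have h1 := mul_mem_sup (show φ a' ∈ φ.range from ⟨a', rfl⟩) hm
    rwa [mul_inv_cancel_left] at h1)
  refine ⟨o, ho, ?_, hn⟩
  set t := sgU φ 1
  have h1 : o * c * t * (o * c)⁻¹ = o * t * o⁻¹ := by
    rw [mul_assoc o c t, hct.eq]; group
  have hE : o * t * o⁻¹ ∈ eU φ := h1 ▸ (mem_normalizer_iff.1 hn t).1 (h.sgU_mem 1)
  have hO : o * t * o⁻¹ * t⁻¹ ∈ Oc (zU φ) := by
    rw [show o * t * o⁻¹ * t⁻¹ = o * (t * o⁻¹ * t⁻¹) by group]
    exact mul_mem ho ((mem_normalizer_iff.1 (hR ⟨_, rfl⟩) _).1 (inv_mem ho))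
  have h2 := h.eq_one_of_mem_eU (h.odd_oc _) (mul_mem hE (inv_mem (h.sgU_mem 1))) hO
  exact mul_inv_eq_iff_eq_mul.1 (mul_inv_eq_one.1 h2)

theorem a_order : orderOf (aU φ) = 2 := h.order_two (eP_sq _ (aR_facts 0).2.1) (aR_facts 0).2.2.1

/-- A 2-group centralising `a` has order at most 512. -/
theorem card_le_cent_a {U : Subgroup G} (hU : IsPGroup 2 U) (hUa : U ≤ centralizer ({aU φ} : Set G)) :
    Nat.card U ≤ 512 := by
  have hA : IsPGroup 2 (zpowers (aU φ)) :=
    h.isPGroup.to_le (zpowers_le.2 ⟨aR 0, rfl⟩)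
  have hV : IsPGroup 2 ↥(zpowers (aU φ) ⊔ U) := hA.to_sup_of_normal_left' hU fun u hu => by
    refine ZStarApps.mem_normalizer_of_maps fun w hw => ?_
    obtain ⟨i, rfl⟩ := mem_zpowers_iff.1 hw
    rw [((show Commute u (aU φ) from mem_centralizer_singleton_iff.1 (hUa hu)).zpow_right i).eq,
      mul_inv_cancel_right]
    exact zpow_mem (mem_zpowers _) i
  obtain ⟨d, -, hd⟩ := h.into_range (H := ⊤) hV le_top le_top
  obtain ⟨m, hm⟩ := hd _ (mem_sup_left (mem_zpowers _))
  set U' := U.map (MulAut.conj d).toMonoidHom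
  have hU'le : U' ≤ φ.range := by
    rintro _ ⟨u, hu, rfl⟩
    exact hd u (mem_sup_right hu)
  have hcm : U' ≤ (centralizer ({m} : Set Mdl)).map φ := fun y hy => by
    obtain ⟨n, hn⟩ := hU'le hy
    refine ⟨n, mem_centralizer_singleton_iff.2 (h.inj ?_), hn⟩
    obtain ⟨u, hu, rfl⟩ := hy
    rw [map_mul, map_mul, hm, hn]
    simp only [MulEquiv.coe_toMonoidHom, MulAut.conj_apply]
    calc d * u * d⁻¹ * (d * aU φ * d⁻¹) = d * (u * aU φ) * d⁻¹ := by group
      _ = d * (aU φ * u) * d⁻¹ := by rw [mem_centralizer_singleton_iff.1 (hUa hu)]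
      _ = _ := by group
  have hne : centralizer ({m} : Set Mdl) ≠ ⊤ := by
    intro e
    have hall : ∀ y : Mdl, y * m = m * y := fun y => mem_centralizer_singleton_iff.1 (e ▸ mem_top y)
    rcases cent_qM m (fun i => (hall _).symm) with rfl | rfl
    · rw [map_one] at hm
      exact ne_of_gt (by rw [h.a_order]; norm_num : 1 < orderOf (aU φ))
        (orderOf_eq_one_iff.2 (conj_eq_one_iff.1 hm.symm))
    · exact h.aR_not_conj 0 (isConj_iff.2 ⟨d, hm.symm⟩).symm
  calc Nat.card U = Nat.card U' := (card_map_of_injective (MulAut.conj d).injective).symm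
    _ ≤ Nat.card ((centralizer ({m} : Set Mdl)).map φ) := card_le_of_le hcm
    _ = Nat.card (centralizer ({m} : Set Mdl)) := h.card_map_eq _
    _ ≤ 512 := by
      have h1 := card_subgroup_dvd_card (centralizer ({m} : Set Mdl))
      rw [card_mdl, show (1024 : ℕ) = 2 ^ 10 from rfl] at h1
      obtain ⟨j, hj, e⟩ := (Nat.dvd_prime_pow Nat.prime_two).1 h1
      rcases eq_or_ne j 10 with rfl | hj'
      · exact absurd (eq_top_of_card_eq _ (by rw [e, card_mdl]; rfl)) hne
      · rw [e]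
        calc 2 ^ j ≤ 2 ^ 9 := Nat.pow_le_pow_right (by norm_num) (by omega)
          _ = 512 := rfl

/-- The five fused inside `C(a)` with the fourth. -/
theorem x_fusion {g : G} (hga : Commute g (aU φ)) {m : Mdl} (hm : φ m = g * sgU φ 3 * g⁻¹) :
    m = sgM 3 ∨ m = sgM 4 := by
  obtain ⟨i, rfl⟩ := h.five_only ((h.five_conj 3).trans (isConj_iff.2 ⟨g, hm.symm⟩))
  obtain ⟨n, hn, hne⟩ := h.control (T := {aU φ, sgU φ 3})
    (by rintro w (rfl | rfl); exacts [h.aR_mem 0, h.sgU_mem 3]) (g := g) (by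
      rintro w (rfl | rfl)
      · rw [hga.eq, mul_inv_cancel_right]; exact h.aR_mem 0
      · rw [← hm]; exact mem_map_of_mem φ (sgM_eP i))
  have ha := hne _ (Set.mem_insert _ _)
  rw [hga.eq, mul_inv_cancel_right] at ha
  have hx := (h.perm_spec ⟨n, hn⟩ 3).symm.trans ((hne _ (Set.mem_insert_of_mem _ rfl)).trans hm.symm)
  have hi : h.perm ⟨n, hn⟩ 3 = i := sgM_inj (h.inj hx)
  have h34 : sgM (h.perm ⟨n, hn⟩ 3) * sgM (h.perm ⟨n, hn⟩ 4) = aR 0 := h.inj (by
    rw [map_mul]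
    show sgU φ _ * sgU φ _ = aU φ
    rw [← h.perm_spec, ← h.perm_spec, ← ha]
    show n * sgU φ 3 * n⁻¹ * (n * sgU φ 4 * n⁻¹) = _
    rw [show aU φ = sgU φ 3 * sgU φ 4 by rw [aU, aR_pair.1, map_mul]; rfl]
    group)
  rw [← hi]
  rcases pair_34 _ _ (fun e => absurd ((h.perm ⟨n, hn⟩).injective e) (by decide)) h34 with e | e <;> simp [e]

/-- `C(a)` is its core times the centraliser of the third and fourth and a transposition of them. -/
theorem cent_a_dec {g : G} (hg : Commute g (aU φ)) : ∃ o ∈ Oc (aU φ),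
    Commute (o * g) (sgU φ 3) ∨ Commute ((φ (bR 0))⁻¹ * (o * g)) (sgU φ 3) := by
  haveI : Fact (Nat.Prime 2) := ⟨Nat.prime_two⟩
  set H := centralizer ({aU φ} : Set G)
  set U := (centralizer ({aR 0} : Set Mdl)).map φ
  have hUH : U ≤ H := by
    rintro _ ⟨y, hy, rfl⟩
    rw [mem_centralizer_singleton_iff, aU, ← map_mul, ← map_mul, mem_centralizer_singleton_iff.1 hy]
  have hU : IsPGroup 2 U := h.isPGroup.to_le (map_le_range φ _)
  obtain ⟨T, hT⟩ := (hU.of_injective (subgroupOfEquivOfLe hUH).toMonoidHom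
    (subgroupOfEquivOfLe hUH).injective).exists_le_sylow
  have hTU : (T : Subgroup H).map H.subtype = U := by
    refine (eq_of_le_of_card_ge ?_ ?_).symm
    · intro y hy
      exact ⟨⟨y, hUH hy⟩, hT (mem_subgroupOf.2 hy), rfl⟩
    · calc Nat.card ((T : Subgroup H).map H.subtype) ≤ 512 :=
          h.card_le_cent_a (T.isPGroup'.map _) (map_subtype_le _)
        _ = Nat.card U := ((h.card_map_eq _).trans ((card_centralizer_mdl _).trans (cent_cards.2.1 0))).symm
  set a' : H := ⟨aU φ, mem_centralizer_singleton_iff.2 rfl⟩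
  set x' : H := ⟨sgU φ 3, mem_centralizer_singleton_iff.2 (h.eU_comm (h.sgU_mem 3) (h.aR_mem 0))⟩
  have ha : a' ∈ center H := mem_center_iff.2 fun y => Subtype.ext (mem_centralizer_singleton_iff.1 y.2)
  have ha2 : a' * a' = 1 := Subtype.ext (h.eU_sq (h.aR_mem 0))
  haveI : (zpowers a').Normal :=
    ⟨fun w hw y => by rwa [mem_center_iff.1 (zpowers_le.2 ha hw) y, mul_inv_cancel_right]⟩
  have hmemT : ∀ y : Mdl, y * aR 0 = aR 0 * y → ∀ hy : φ y ∈ H, (⟨φ y, hy⟩ : H) ∈ (T : Subgroup H) :=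
    fun y hy hy' => hT (mem_subgroupOf.2 (mem_map_of_mem φ (mem_centralizer_singleton_iff.2 hy)))
  have haT : a' ∈ (T : Subgroup H) := hmemT (aR 0) rfl _
  have hI : ZStarApps.Isolated2 (QuotientGroup.mk' (zpowers a') x') := by
    refine ⟨T.mapSurjective (QuotientGroup.mk'_surjective _),
      ⟨x', hmemT _ (eP_comm _ (sgM_eP 3) _ (aR_facts 0).2.1) _, rfl⟩, fun gb hgb => ?_⟩
    obtain ⟨y, rfl⟩ := QuotientGroup.mk'_surjective _ gb
    obtain ⟨t, ht, hte⟩ := hgb
    rw [← map_inv, ← map_mul, ← map_mul] at hte ⊢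
    rw [QuotientGroup.mk'_apply, QuotientGroup.mk'_apply, QuotientGroup.eq] at hte
    have hmem : y * x' * y⁻¹ ∈ (T : Subgroup H) := by
      have h1 := mul_mem ht (zpowers_le.2 haT hte)
      rwa [mul_inv_cancel_left] at h1
    have h2 : ((y * x' * y⁻¹ : H) : G) ∈ U := hTU ▸ mem_map_of_mem H.subtype hmem
    obtain ⟨m, -, hm⟩ := h2
    rw [QuotientGroup.mk'_apply, QuotientGroup.mk'_apply, QuotientGroup.eq]
    rcases h.x_fusion (mem_centralizer_singleton_iff.1 y.2) (hm.trans (by simp [x'])) with rfl | rfl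
    · have : y * x' * y⁻¹ = x' := Subtype.ext hm.symm
      rw [this, inv_mul_cancel]
      exact one_mem _
    · have : y * x' * y⁻¹ = x' * a' := Subtype.ext (hm.symm.trans (by
        show φ (sgM 4) = φ (sgM 3) * φ (aR 0)
        rw [← map_mul, x_mul_a.1]))
      rw [this, mul_inv_rev, mul_assoc, inv_mul_cancel, mul_one]
      exact inv_mem (mem_zpowers _)
  have hx2 : orderOf x' ∣ 2 ^ 1 := by
    refine orderOf_dvd_of_pow_eq_one (Subtype.ext ?_)
    show sgU φ 3 ^ (2 ^ 1) = 1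
    rw [pow_one, pow_two]; exact h.eU_sq (h.sgU_mem 3)
  have key := mod_central ha ha2 hx2 hI ⟨g, mem_centralizer_singleton_iff.2 hg.eq⟩
  set x := sgU φ 3
  have hxo : orderOf x = 2 := h.order_two (eP_sq _ (sgM_eP 3)) (sgM_qP 3).2.2
  have hgx : orderOf (g * x * g⁻¹) = 2 := (MulEquiv.orderOf_eq (MulAut.conj g) x).trans hxo
  have hxinv : x⁻¹ = x := InvolCalc.inv_of_order_two hxo
  rcases key with k | k
  · have k' : g * x * g⁻¹ * x⁻¹ ∈ Oc (aU φ) := ⟨_, k, rfl⟩
    rw [hxinv] at k'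
    obtain ⟨o, ho, e⟩ := conj_of_mod (h.odd_oc _) hgx hxo k'
    refine ⟨o, ho, Or.inl (mul_inv_eq_iff_eq_mul.1 ?_)⟩
    conv_rhs => rw [← e]
    group
  · have k' : g * x * g⁻¹ * x⁻¹ * aU φ ∈ Oc (aU φ) := ⟨_, k, rfl⟩
    have hx4 : x * aU φ = sgU φ 4 := by
      show φ (sgM 3) * φ (aR 0) = φ (sgM 4)
      rw [← map_mul, x_mul_a.1]
    rw [hxinv, mul_assoc, hx4] at k'
    obtain ⟨o, ho, e⟩ := conj_of_mod (h.odd_oc _) hgx (h.order_two (eP_sq _ (sgM_eP 4)) (sgM_qP 4).2.2) k'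
    have hs : φ (bR 0) * x * (φ (bR 0))⁻¹ = sgU φ 4 := by
      show φ (bR 0) * φ (sgM 3) * (φ (bR 0))⁻¹ = φ (sgM 4)
      rw [← map_inv, ← map_mul, ← map_mul, conj_bR_sgM]
      exact congrArg (fun i => φ (sgM i)) x_mul_a.2.1
    refine ⟨o, ho, Or.inr (mul_inv_eq_iff_eq_mul.1 ?_)⟩
    calc (φ (bR 0))⁻¹ * (o * g) * x * ((φ (bR 0))⁻¹ * (o * g))⁻¹
        = (φ (bR 0))⁻¹ * (o * (g * x * g⁻¹) * o⁻¹) * φ (bR 0) := by group
      _ = x := by
        rw [e]
        show (φ (bR 0))⁻¹ * sgU φ 4 * φ (bR 0) = x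
        rw [← hs]; group

/-- The core of the centraliser of two of the five lies in the core of `C(a)`. -/
theorem core_pair_le : Core (centralizer ({sgU φ 3} : Set G) ⊓ centralizer ({aU φ} : Set G)) ≤ Oc (aU φ) := by
  set D := centralizer ({sgU φ 3} : Set G) ⊓ centralizer ({aU φ} : Set G)
  set O := Oc (aU φ)
  have hDH : D ≤ centralizer ({aU φ} : Set G) := inf_le_right
  have hHO := Walter.R3.oc_norm (aU φ)
  have hKO : Core D ≤ normalizer (O : Set G) := (core_le D).trans (hDH.trans hHO)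
  suffices hle : Core D ⊔ O ≤ O from le_sup_left.trans hle
  refine Walter.R3.le_oc (sup_le ((core_le D).trans hDH) (Cfsg.Lib.Components.centralizerPPrimeCore_le_centralizer _))
    (fun g hg => ?_) (odd_sup (Cfsg.Lib.GW.Frame.odd_card_core D) (h.odd_oc _) hKO)
  have hga : Commute g (aU φ) := mem_centralizer_singleton_iff.1 hg
  obtain ⟨o, ho, hc⟩ := h.cent_a_dec hga
  set M := Core D ⊔ O
  have hOM : O ≤ normalizer (M : Set G) := le_sup_right.trans le_normalizer
  have hoa : Commute o (aU φ) := Walter.R3.oc_comm ho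
  have hsa : Commute (φ (bR 0)) (aU φ) := (bR_facts 0).2.2.2.2 |> fun e => by
    show φ (bR 0) * φ (aR 0) = φ (aR 0) * φ (bR 0)
    rw [← map_mul, ← map_mul, e]
  have hgood : ∀ c, Commute c (aU φ) → Commute c (sgU φ 3) → c ∈ normalizer (M : Set G) := fun c h1 h2 => by
    have hcD : c ∈ D := ⟨mem_centralizer_singleton_iff.2 h2.eq, mem_centralizer_singleton_iff.2 h1.eq⟩
    exact le_normalizer_sup (le_normalizer_core D) (hDH.trans hHO) hcD
  have hog : o * g ∈ normalizer (M : Set G) := by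
    rcases hc with hc | hc
    · exact hgood _ (hoa.mul_left hga) hc
    · have hs : φ (bR 0) ∈ normalizer (M : Set G) := by
        have hsD : ∀ d ∈ D, φ (bR 0) * d * (φ (bR 0))⁻¹ ∈ D := by
          intro d hd
          have hd1 : Commute d (sgU φ 3) := mem_centralizer_singleton_iff.1 hd.1
          have hd2 : Commute d (aU φ) := mem_centralizer_singleton_iff.1 hd.2
          have h4 : Commute (φ (bR 0) * d * (φ (bR 0))⁻¹) (sgU φ 4) := by
            have := hd1.map (MulAut.conj (φ (bR 0))).toMonoidHom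
            simp only [MulEquiv.coe_toMonoidHom, MulAut.conj_apply] at this
            rwa [show φ (bR 0) * sgU φ 3 * (φ (bR 0))⁻¹ = sgU φ 4 by
              show φ (bR 0) * φ (sgM 3) * (φ (bR 0))⁻¹ = φ (sgM 4)
              rw [← map_inv, ← map_mul, ← map_mul, conj_bR_sgM]
              exact congrArg (fun i => φ (sgM i)) x_mul_a.2.1] at this
          have ha' : Commute (φ (bR 0) * d * (φ (bR 0))⁻¹) (aU φ) := (hsa.mul_left hd2).mul_left hsa.inv_left
          refine ⟨mem_centralizer_singleton_iff.2 ?_, mem_centralizer_singleton_iff.2 ha'.eq⟩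
          have e : sgU φ 3 = sgU φ 4 * aU φ := by
            show φ (sgM 3) = φ (sgM 4) * φ (aR 0)
            rw [← map_mul, ← x_mul_a.1, mul_assoc, eP_sq _ (aR_facts 0).2.1, mul_one]
          rw [e]
          exact (h4.mul_right ha').eq
        exact le_normalizer_sup (H := zpowers (φ (bR 0))) (zpowers_le.2 (conj_core hsD))
          (zpowers_le.2 (hHO (mem_centralizer_singleton_iff.2 hsa.eq))) (mem_zpowers _)
      have h1 := mul_mem hs (hgood _ (hsa.inv_left.mul_left (hoa.mul_left hga)) hc)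
      rwa [mul_inv_cancel_left] at h1
  exact ((normalizer (M : Set G)).mul_mem_cancel_left (hOM ho)).1 hog

/-- The centraliser of the third and fourth, up to the core of `C(a)`, normalises `E`. -/
theorem cent_xa {c : G} (hcx : Commute c (sgU φ 3)) (hca : Commute c (aU φ)) :
    ∃ o ∈ Oc (aU φ), o * c ∈ normalizer (eU φ : Set G) := by
  obtain ⟨σ, hσ, hs0, hs1⟩ := sigma_pair
  obtain ⟨n, hn, hne⟩ := h.five_onto σ hσ
  have h0 : n * zU φ * n⁻¹ = sgU φ 3 := hs0 ▸ hne 0
  have h1 : n * sgU φ 1 * n⁻¹ = sgU φ 4 := hs1 ▸ hne 1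
  have hc4 : Commute c (sgU φ 4) := by
    rw [show sgU φ 4 = sgU φ 3 * aU φ by
      show φ (sgM 4) = φ (sgM 3) * φ (aR 0)
      rw [← map_mul, x_mul_a.1]]
    exact hcx.mul_right hca
  have back : ∀ w v, n * v * n⁻¹ = w → Commute c w → Commute (n⁻¹ * c * n) v := by
    intro w v e hw
    have := hw.map (MulAut.conj n⁻¹).toMonoidHom
    rw [← e] at this
    simpa [mul_assoc] using this
  obtain ⟨o, ho, hot, hon⟩ := h.cent_t (c := n⁻¹ * c * n)
    (mem_centralizer_singleton_iff.2 (back _ _ h0 hcx).eq) (back _ _ h1 hc4)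
  refine ⟨n * o * n⁻¹, ?_, ?_⟩
  · refine h.core_pair_le ?_
    have hx : n * o * n⁻¹ ∈ Oc (sgU φ 3) := h0 ▸ Walter.R3.conj_mem_oc ho
    have h4 : Commute (n * o * n⁻¹) (sgU φ 4) := by
      have := hot.map (MulAut.conj n).toMonoidHom
      rw [← h1]
      simpa using this
    set x := sgU φ 3
    refine Walter.R3.le_core (X := Oc x ⊓ centralizer ({aU φ} : Set G)) ?_ ?_ ?_ ⟨hx, ?_⟩
    · exact inf_le_inf_right _ (Cfsg.Lib.Components.centralizerPPrimeCore_le_centralizer _)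
    · exact le_normalizer_inf (inf_le_left.trans (Walter.R3.oc_norm _)) (inf_le_right.trans le_normalizer)
    · exact (h.odd_oc x).of_dvd_nat (card_dvd_of_le inf_le_left)
    · have hxe : Commute (n * o * n⁻¹) x := Walter.R3.oc_comm hx
      refine mem_centralizer_singleton_iff.2 ?_
      rw [ show aU φ = x * sgU φ 4 by
        show φ (aR 0) = φ (sgM 3) * φ (sgM 4)
        rw [← map_mul, aR_pair.1]]
      exact (hxe.mul_right h4).eq
  · have h2 := mul_mem (mul_mem hn hon) (inv_mem hn)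
    convert h2 using 1
    group

/-- **`C(a)` is its core times the part normalising `E`.** -/
theorem cent_a {g : G} (hg : Commute g (aU φ)) :
    ∃ o ∈ Oc (aU φ), o * g ∈ normalizer (eU φ : Set G) := by
  obtain ⟨o, ho, hc⟩ := h.cent_a_dec hg
  have hog : Commute (o * g) (aU φ) := (Walter.R3.oc_comm ho).mul_left hg
  rcases hc with hc | hc
  · obtain ⟨o', ho', hn⟩ := h.cent_xa hc hog
    exact ⟨o' * o, mul_mem ho' ho, by rwa [mul_assoc]⟩
  · have hsa : Commute (φ (bR 0)) (aU φ) := by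
      show φ (bR 0) * φ (aR 0) = φ (aR 0) * φ (bR 0)
      rw [← map_mul, ← map_mul, (bR_facts 0).2.2.2.2]
    obtain ⟨o', ho', hn⟩ := h.cent_xa hc (hsa.inv_left.mul_left hog)
    refine ⟨φ (bR 0) * o' * (φ (bR 0))⁻¹ * o, mul_mem ((mem_normalizer_iff.1
      (Walter.R3.oc_norm _ (mem_centralizer_singleton_iff.2 hsa.eq)) o').1 ho') ho, ?_⟩
    have h2 := mul_mem (h.range_le_norm ⟨bR 0, rfl⟩) hn
    convert h2 using 1
    group

end Frame

end Cfsg.Lib.UFiveType
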