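import Cfsg.Agent.UFiveType.Fusion

/-!
# The two classes of involutions
-/

set_option autoImplicit false
set_option linter.style.haveILetI false
set_option linter.unusedSectionVars false
set_option synthInstance.maxSize 1024
set_option maxRecDepth 100000

namespace Cfsg.Lib.UFiveType

open Subgroup Cfsg.Lib.InvolCalc

universe u

variable {G : Type u} [Group G] [Finite G] {φ : Mdl →* G}

/-- A rotation of the three classes, fixing the first two of the five. -/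
def rho : Equiv.Perm (Fin 5) := Equiv.swap 2 4 * Equiv.swap 2 3

theorem rho_facts : Equiv.Perm.sign rho = 1 ∧ rho 0 = 0 ∧
    (∀ k : Fin 3, ∃ p q : Fin 5, aR k = sgM p * sgM q ∧ aR (k + 1) = sgM (rho p) * sgM (rho q)) ∧
    ∀ k : Fin 3, ∃ j, rho * dperm k * rho⁻¹ = dperm j := by decide +kernel

theorem sigma_pair : ∃ σ : Equiv.Perm (Fin 5), Equiv.Perm.sign σ = 1 ∧ σ 0 = 3 ∧ σ 1 = 4 :=
  ⟨Equiv.swap 0 3 * Equiv.swap 1 4, by decide +kernel⟩

theorem rep_cases_three : ∀ i : Fin 8,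
    (∃ l, iRep i = aR l) ∨ (∃ l, iRep i = bR l) ∨ iRep i = sgM 1 ∨ iRep i = sgM 0 * sgM 1 := by decide +kernel

namespace Frame

variable (h : Frame φ)
include h

variable [IsSimpleGroup G]

theorem exists_rot : ∃ g : normalizer (eU φ : Set G), (g : G) ∈ cU φ ∧ h.permHom g = rho ∧
    ∀ k, (g : G) * φ (aR k) * (g : G)⁻¹ = φ (aR (k + 1)) := by
  obtain ⟨g, hg, hga⟩ := h.five_onto rho rho_facts.1
  refine ⟨⟨g, hg⟩, ?_, Equiv.ext fun i => sgU_inj h ((h.perm_spec ⟨g, hg⟩ i).symm.trans (hga i)), fun k => ?_⟩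
  · rw [cU, mem_centralizer_singleton_iff]
    have := hga 0
    rw [rho_facts.2.1] at this
    exact mul_inv_eq_iff_eq_mul.1 this
  · obtain ⟨p, q, e, e'⟩ := rho_facts.2.2.1 k
    show g * φ (aR k) * g⁻¹ = _
    rw [e, e', map_mul, map_mul, show g * (φ (sgM p) * φ (sgM q)) * g⁻¹ =
      g * φ (sgM p) * g⁻¹ * (g * φ (sgM q) * g⁻¹) by group]
    exact congrArg₂ (· * ·) (hga p) (hga q)

theorem aR_step (k : Fin 3) : ∃ c ∈ cU φ, c * φ (aR k) * c⁻¹ = φ (aR (k + 1)) := by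
  obtain ⟨g, hg, -, he⟩ := h.exists_rot
  exact ⟨g, hg, he k⟩

theorem bR_step (k : Fin 3) : ∃ c ∈ cU φ, c * φ (bR k) * c⁻¹ = φ (bR (k + 1)) := by
  classical
  obtain ⟨g, hgz, hgp, hga⟩ := h.exists_rot
  let V : Subgroup (Equiv.Perm (Fin 5)) :=
    { carrier := {σ | ∃ j : Option (Fin 3), σ = j.elim 1 dperm}
      one_mem' := ⟨none, rfl⟩
      mul_mem' := by
        rintro a b ⟨i, rfl⟩ ⟨j, rfl⟩
        revert i j; decide +kernel
      inv_mem' := by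
        rintro a ⟨i, rfl⟩
        revert i; decide +kernel }
  set M := (V.comap h.permHom).map (normalizer (eU φ : Set G)).subtype
  have hrM : φ.range ≤ M := fun x hx => by
    refine ⟨⟨x, h.range_le_norm hx⟩, ?_, rfl⟩
    obtain ⟨j, hj⟩ := h.permHom_range_act (x := ⟨x, h.range_le_norm hx⟩) hx
    show ∃ o : Option (Fin 3), _
    induction j using Fin.cases with
    | zero => exact ⟨none, Equiv.ext fun i => (hj i).trans (v4_zero i)⟩
    | succ j => exact ⟨some j, Equiv.ext fun i => (hj i).trans ((dperm_facts j).2.2 i).symm⟩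
  set b := φ (bR k)
  have hbN : b ∈ normalizer (eU φ : Set G) := h.range_le_norm ⟨_, rfl⟩
  set y := g * ⟨b, hbN⟩ * g⁻¹ with hy
  have hyV : h.permHom y ∈ V := by
    have hb : h.permHom ⟨b, hbN⟩ = dperm k := Equiv.ext fun i => sgU_inj h (by
      refine (h.perm_spec _ i).symm.trans ?_
      rw [(dperm_facts k).2.2, sgU, sgU, ← conj_bR_sgM k i]
      simp [b])
    obtain ⟨j, hj⟩ := rho_facts.2.2.2 k
    exact ⟨some j, by rw [hy, map_mul, map_mul, map_inv, hgp, hb]; exact hj⟩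
  have hy2 : (y : G) * y = 1 := by
    rw [hy]
    show (g : G) * b * (g : G)⁻¹ * ((g : G) * b * (g : G)⁻¹) = 1
    rw [show (g : G) * b * (g : G)⁻¹ * ((g : G) * b * (g : G)⁻¹) = g * (b * b) * (g : G)⁻¹ by group,
      ← map_mul, (bR_facts k).2.2.1, map_one, mul_one, mul_inv_cancel]
  have hV2 : IsPGroup 2 (zpowers (y : G)) := by
    have ho : orderOf (y : G) ∣ 2 := orderOf_dvd_of_pow_eq_one (by rw [pow_two, hy2])
    obtain ⟨e, -, he⟩ := (Nat.dvd_prime_pow Nat.prime_two).1 (show orderOf (y : G) ∣ 2 ^ 1 by simpa using ho)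
    exact IsPGroup.of_card (n := e) (by rw [Nat.card_zpowers, he])
  obtain ⟨c, hcM, hcy⟩ := h.into_range hV2 (zpowers_le.2 (show (y : G) ∈ M from mem_map.2 ⟨y, hyV, rfl⟩)) hrM
  obtain ⟨c', ⟨o, ho⟩, rfl⟩ := hcM
  obtain ⟨s, hsR, hs⟩ : ∃ s : ↥(normalizer (eU φ : Set G)), (s : G) ∈ φ.range ∧ h.permHom s = h.permHom c' := by
    rw [ho]
    rcases o with _ | j
    · exact ⟨1, one_mem _, map_one _⟩
    · obtain ⟨x, hx, he⟩ := h.v4_real j
      exact ⟨x, hx, he⟩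
  set x := (s⁻¹ * c' * g : ↥(normalizer (eU φ : Set G)))
  have hxp : h.permHom (s⁻¹ * c') = 1 := by rw [map_mul, map_inv, hs, inv_mul_cancel]
  have hxa : (x : G) * φ (aR k) * (x : G)⁻¹ = φ (aR (k + 1)) := by
    show ((s⁻¹ * c' : ↥(normalizer (eU φ : Set G))) : G) * g * φ (aR k) * (((s⁻¹ * c' : ↥(normalizer (eU φ : Set G))) : G) * g)⁻¹ = _
    rw [show ((s⁻¹ * c' : ↥(normalizer (eU φ : Set G))) : G) * g * φ (aR k) * (((s⁻¹ * c' : ↥(normalizer (eU φ : Set G))) : G) * g)⁻¹ =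
      ((s⁻¹ * c' : ↥(normalizer (eU φ : Set G))) : G) * (g * φ (aR k) * (g : G)⁻¹) * ((s⁻¹ * c' : ↥(normalizer (eU φ : Set G))) : G)⁻¹ by group, hga k]
    obtain ⟨p, q, -, e⟩ := rho_facts.2.2.1 k
    have hfix : ∀ i, ((s⁻¹ * c' : ↥(normalizer (eU φ : Set G))) : G) * φ (sgM i) * ((s⁻¹ * c' : ↥(normalizer (eU φ : Set G))) : G)⁻¹ = φ (sgM i) := fun i => by
      have := h.perm_spec (s⁻¹ * c') i
      rwa [show h.perm (s⁻¹ * c') = 1 from hxp, Equiv.Perm.one_apply] at this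
    generalize ((s⁻¹ * c' : ↥(normalizer (eU φ : Set G))) : G) = u at hfix
    rw [e, map_mul, show u * (φ (sgM (rho p)) * φ (sgM (rho q))) * u⁻¹ =
      u * φ (sgM (rho p)) * u⁻¹ * (u * φ (sgM (rho q)) * u⁻¹) by group, hfix, hfix]
  have hxz : (x : G) ∈ cU φ := by
    have hsz : (s : G) ∈ cU φ := h.range_le_cU hsR
    have hfix := h.perm_spec (s⁻¹ * c') 0
    rw [show h.perm (s⁻¹ * c') = 1 from hxp, Equiv.Perm.one_apply] at hfix
    refine mul_mem ?_ hgz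
    rw [cU, mem_centralizer_singleton_iff]
    exact mul_inv_eq_iff_eq_mul.1 hfix
  obtain ⟨m, hm⟩ : (x : G) * b * (x : G)⁻¹ ∈ φ.range := by
    have := mul_mem (mul_mem (inv_mem hsR) (hcy _ (mem_zpowers _))) hsR
    have e : (x : G) * b * (x : G)⁻¹ = (s : G)⁻¹ * ((c' : G) * y * (c' : G)⁻¹) * s := by
      simp [x, hy]
      group
    rw [e]
    exact this
  have hm2 : m * m = 1 := h.inj (by
    rw [map_mul, hm, map_one, show (x : G) * b * (x : G)⁻¹ * ((x : G) * b * (x : G)⁻¹) =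
      x * (b * b) * (x : G)⁻¹ by group, ← map_mul, (bR_facts k).2.2.1, map_one, mul_one, mul_inv_cancel])
  have hmc : m * aR (k + 1) = aR (k + 1) * m := h.inj (by
    rw [map_mul, map_mul, hm, ← hxa,
      show (x : G) * b * (x : G)⁻¹ * ((x : G) * φ (aR k) * (x : G)⁻¹) = x * (b * φ (aR k)) * (x : G)⁻¹ by group,
      ← map_mul, (bR_facts k).2.2.2.2, map_mul]
    simp only [b]
    group)
  have hmE : ¬ eP m := fun e => (bR_facts k).2.1 (by
    have h1 : φ m ∈ eU φ := mem_map_of_mem φ e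
    rw [hm] at h1
    obtain ⟨n, hn, hne⟩ := (mem_normalizer_iff.1 x.2 b).2 h1
    exact h.inj hne ▸ hn)
  obtain ⟨w, hw⟩ := aR_cent_invol (k + 1) m hmc hm2 hmE
  refine ⟨(φ ⟨w⟩)⁻¹ * x, mul_mem (inv_mem (h.range_le_cU ⟨_, rfl⟩)) hxz, ?_⟩
  rw [show (φ ⟨w⟩)⁻¹ * ↑x * φ (bR k) * ((φ ⟨w⟩)⁻¹ * ↑x)⁻¹ = (φ ⟨w⟩)⁻¹ * (x * b * (x : G)⁻¹) * φ ⟨w⟩ by
    simp only [b]; group, ← hm, hw]
  simp only [← map_inv, ← map_mul]
  congr 1
  group

theorem aR_conj (k : Fin 3) : ∃ c ∈ cU φ, c * aU φ * c⁻¹ = φ (aR k) := by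
  obtain ⟨g, hg, he⟩ := h.aR_step 0
  obtain ⟨g', hg', he'⟩ := h.aR_step 1
  fin_cases k
  · exact ⟨1, one_mem _, by simp [aU]⟩
  · exact ⟨g, hg, he⟩
  · exact ⟨g' * g, mul_mem hg' hg, by
      rw [aU, show g' * g * φ (aR 0) * (g' * g)⁻¹ = g' * (g * φ (aR 0) * g⁻¹) * g'⁻¹ by group, he]; exact he'⟩

theorem bR_conj (k : Fin 3) : ∃ c ∈ cU φ, c * aU φ * c⁻¹ = φ (bR k) := by
  obtain ⟨k₀, l, c, hc, hce⟩ := h.exists_fused
  obtain ⟨d, hd, hde⟩ := h.aR_conj l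
  have h0 : ∃ c ∈ cU φ, c * aU φ * c⁻¹ = φ (bR k₀) :=
    ⟨c⁻¹ * d, mul_mem (inv_mem hc) hd, by
      rw [show c⁻¹ * d * aU φ * (c⁻¹ * d)⁻¹ = c⁻¹ * (d * aU φ * d⁻¹) * c by group, hde, ← hce]; group⟩
  have step : ∀ j, (∃ c ∈ cU φ, c * aU φ * c⁻¹ = φ (bR j)) → ∃ c ∈ cU φ, c * aU φ * c⁻¹ = φ (bR (j + 1)) := by
    rintro j ⟨c, hc, he⟩
    obtain ⟨g, hg, hge⟩ := h.bR_step j
    exact ⟨g * c, mul_mem hg hc, by
      rw [show g * c * aU φ * (g * c)⁻¹ = g * (c * aU φ * c⁻¹) * g⁻¹ by group, he, hge]⟩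
  have h1 := step _ h0
  have h2 := step _ h1
  have hk : ∀ a k : Fin 3, k = a ∨ k = a + 1 ∨ k = a + 1 + 1 := by decide
  rcases hk k₀ k with rfl | rfl | rfl
  exacts [h0, h1, h2]

theorem classes (x : G) (hx : orderOf x = 2) : IsConj (zU φ) x ∨ IsConj (aU φ) x := by
  have hV : IsPGroup 2 (zpowers x) := IsPGroup.of_card (n := 1) (by rw [Nat.card_zpowers, hx, pow_one])
  obtain ⟨c, -, hc⟩ := h.into_range (H := ⊤) hV le_top le_top
  obtain ⟨m, hm⟩ := hc x (mem_zpowers x)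
  suffices hs : IsConj (zU φ) (φ m) ∨ IsConj (aU φ) (φ m) by
    have hxm : IsConj (φ m) x := isConj_iff.2 ⟨c⁻¹, by rw [hm]; group⟩
    exact hs.imp (·.trans hxm) (·.trans hxm)
  have hm2 : m * m = 1 := h.inj (by
    rw [map_mul, hm, map_one, show c * x * c⁻¹ * (c * x * c⁻¹) = c * x ^ 2 * c⁻¹ by rw [pow_two]; group,
      ← hx, pow_orderOf_eq_one, mul_one, mul_inv_cancel])
  rcases invol_class m hm2 with rfl | rfl | ⟨i, w, rfl⟩
  · exfalso
    rw [map_one] at hm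
    rw [conj_eq_one_iff.1 hm.symm, orderOf_one] at hx
    omega
  · exact Or.inl (IsConj.refl _)
  have hw : IsConj (φ (iRep i)) (φ (conjW w * iRep i * (conjW w)⁻¹)) :=
    isConj_iff.2 ⟨φ (conjW w), by simp⟩
  have hcase := rep_cases_three i
  rcases hcase with ⟨l, e⟩ | ⟨l, e⟩ | e | e
  · obtain ⟨d, -, hd⟩ := h.aR_conj l
    exact Or.inr ((isConj_iff.2 ⟨d, e ▸ hd⟩).trans hw)
  · obtain ⟨d, -, hd⟩ := h.bR_conj l
    exact Or.inr ((isConj_iff.2 ⟨d, e ▸ hd⟩).trans hw)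
  · exact Or.inl (IsConj.trans (e ▸ h.five_conj 1) hw)
  · obtain ⟨σ, hσ, h0, h1⟩ := sigma_pair
    obtain ⟨n, -, hn⟩ := h.five_onto σ hσ
    refine Or.inr (IsConj.trans (IsConj.symm (isConj_iff.2 ⟨n, ?_⟩)) hw)
    rw [e, map_mul, show n * (φ (sgM 0) * φ (sgM 1)) * n⁻¹ = n * φ (sgM 0) * n⁻¹ * (n * φ (sgM 1) * n⁻¹) by group,
      show n * φ (sgM 0) * n⁻¹ = sgU φ 3 from (hn 0).trans (by rw [h0]),
      show n * φ (sgM 1) * n⁻¹ = sgU φ 4 from (hn 1).trans (by rw [h1]), aU, aR_pair.1, map_mul]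
    rfl

end Frame

end Cfsg.Lib.UFiveType
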