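import Cfsg.Agent.UFiveType.Model
import Cfsg.Agent.S0280
import Cfsg.Prelude.Def_Classical

/-!
# The model is a Sylow 2-subgroup of PSU(5,2)
-/

set_option autoImplicit false
set_option maxRecDepth 100000
set_option linter.style.haveILetI false
set_option Elab.async false

namespace Cfsg.Lib.UFiveType

open Matrix Cfsg

section Congr

variable {F : Type*} [Field F] {F' : Type*} [Field F'] {n q : ℕ}

/-- Special linear groups along an isomorphism of fields. -/
def slCongr (σ : F ≃+* F') : Matrix.SpecialLinearGroup (Fin n) F ≃* Matrix.SpecialLinearGroup (Fin n) F' :=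
  { Matrix.SpecialLinearGroup.map (σ : F →+* F') with
    invFun := Matrix.SpecialLinearGroup.map (σ.symm : F' →+* F)
    left_inv := fun A => by ext i j; simp
    right_inv := fun A => by ext i j; simp }

theorem slCongr_mem (σ : F ≃+* F') {A : Matrix.SpecialLinearGroup (Fin n) F} (hA : A ∈ SU n F q) :
    slCongr σ A ∈ SU n F' q := by
  intro u v
  have hcon : ∀ x : Fin n → F, slToMat n F' (slCongr σ A) *ᵥ (fun i => σ (x i)) =
      fun i => σ ((slToMat n F A *ᵥ x) i) := fun x => by
    funext i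
    simp [Matrix.mulVec, dotProduct, map_sum, slCongr, slToMat]
  have hf : ∀ x y : Fin n → F,
      hermForm n F' q (fun i => σ (x i)) (fun i => σ (y i)) = σ (hermForm n F q x y) := fun x y => by
    simp [hermForm, map_sum]
  obtain ⟨u, rfl⟩ : ∃ x : Fin n → F, u = fun i => σ (x i) := ⟨fun i => σ.symm (u i), by simp⟩
  obtain ⟨v, rfl⟩ : ∃ x : Fin n → F, v = fun i => σ (x i) := ⟨fun i => σ.symm (v i), by simp⟩
  rw [hcon, hcon, hf, hf, hA u v]

theorem slCongr_symm (σ : F ≃+* F') (A : Matrix.SpecialLinearGroup (Fin n) F') :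
    slCongr σ.symm A = (slCongr σ).symm A := rfl

/-- Projective unitary groups along an isomorphism of fields. -/
theorem psu_congr (σ : F ≃+* F') : Nonempty (PSU n F q ≃* PSU n F' q) := by
  have hmap : (SU n F q).map (slCongr σ).toMonoidHom = SU n F' q := by
    ext A
    constructor
    · rintro ⟨B, hB, rfl⟩
      exact slCongr_mem σ hB
    · intro hA
      refine ⟨(slCongr σ).symm A, ?_, (slCongr σ).apply_symm_apply A⟩
      exact slCongr_symm σ A ▸ slCongr_mem σ.symm hA
  let e : SU n F q ≃* SU n F' q := ((slCongr σ).subgroupMap _).trans (MulEquiv.subgroupCongr hmap)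
  refine ⟨QuotientGroup.congr _ _ e ?_⟩
  ext x
  obtain ⟨y, rfl⟩ := e.surjective x
  refine (Subgroup.mem_map_iff_mem (f := e.toMonoidHom) e.injective).trans ?_
  rw [Subgroup.mem_center_iff, Subgroup.mem_center_iff]
  refine ⟨fun h g => ?_, fun h g => e.injective ?_⟩
  · obtain ⟨g, rfl⟩ := e.surjective g
    rw [← map_mul, ← map_mul, h g]
  · rw [map_mul, map_mul, h (e g)]

end Congr

/-- The change of basis. -/
def bas : Matrix (Fin 5) (Fin 5) K4 :=
  !![1, 0, 0, 0, om; 1, 0, 0, 0, cj om; 0, 1, 0, om, 0; 0, 1, 0, cj om, 0; 0, 0, 1, 0, 0]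

/-- The inverse of the change of basis. -/
def bas' : Matrix (Fin 5) (Fin 5) K4 :=
  !![cj om, om, 0, 0, 0; 0, 0, cj om, om, 0; 0, 0, 0, 0, 1; 0, 0, 1, 1, 0; 1, 1, 0, 0, 0]

theorem bas_inv : bas' * bas = 1 ∧ bas * bas' = 1 := by decide +kernel

theorem conj_det (A : Matrix (Fin 5) (Fin 5) K4) : (bas * A * bas').det = A.det := by
  rw [det_mul, det_mul, mul_comm bas.det, mul_assoc, ← det_mul, bas_inv.2, det_one, mul_one]

theorem matP_det (t v s : ℕ) : (matP t v s).det = 1 := by
  rw [Matrix.det_of_isUpperTriangular]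
  · simp [Fin.prod_univ_five, matP]
  · intro i j h
    fin_cases i <;> fin_cases j <;> simp_all [matP]

/-- The Frobenius map on matrices. -/
def cjMat (A : Matrix (Fin 5) (Fin 5) K4) : Matrix (Fin 5) (Fin 5) K4 := A.map cj

/-- The antidiagonal form. -/
def anti : Matrix (Fin 5) (Fin 5) K4 :=
  !![0, 0, 0, 0, 1; 0, 0, 0, 1, 0; 0, 0, 1, 0, 0; 0, 1, 0, 0, 0; 1, 0, 0, 0, 0]

theorem cjMat_mul (A B : Matrix (Fin 5) (Fin 5) K4) : cjMat (A * B) = cjMat A * cjMat B := by
  ext i j
  simp [cjMat, Matrix.mul_apply, Fin.sum_univ_five, cj_add, cj_mul]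

theorem bas_form : basᵀ * cjMat bas = anti ∧ bas'ᵀ * anti * cjMat bas' = 1 := by decide +kernel

theorem herm_of_iso {A : Matrix (Fin 5) (Fin 5) K4} (h : Aᵀ * cjMat A = 1) (u v : Fin 5 → K4) :
    hermForm 5 K4 2 (A *ᵥ u) (A *ᵥ v) = hermForm 5 K4 2 u v := by
  have hd : ∀ x y : Fin 5 → K4, hermForm 5 K4 2 x y = x ⬝ᵥ fun i => cj (y i) := fun x y => by
    simp [hermForm, dotProduct, cj, pow_two]
  have hc : (fun i => cj ((A *ᵥ v) i)) = cjMat A *ᵥ fun i => cj (v i) := funext fun i => by
    simp [Matrix.mulVec, dotProduct, Fin.sum_univ_five, cjMat, cj_add, cj_mul]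
  rw [hd, hd, hc, dotProduct_mulVec, ← vecMul_transpose, vecMul_vecMul, h, vecMul_one]

theorem conj_iso {U : Matrix (Fin 5) (Fin 5) K4} (h : Uᵀ * anti * cjMat U = anti) :
    (bas * U * bas')ᵀ * cjMat (bas * U * bas') = 1 := by
  rw [cjMat_mul, cjMat_mul, transpose_mul, transpose_mul]
  calc bas'ᵀ * (Uᵀ * basᵀ) * (cjMat bas * cjMat U * cjMat bas')
      = bas'ᵀ * (Uᵀ * (basᵀ * cjMat bas) * cjMat U) * cjMat bas' := by noncomm_ring
    _ = _ := by rw [bas_form.1, h, bas_form.2]

theorem eta_trace : ∀ t : Fin 8, eta t.val + cj (eta t.val) = alp t.val * cj (alp t.val) := by decide +kernel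

theorem zeta_trace : ∀ v : Fin 64, ∀ s : Fin 2, zeta s.val v.val + cj (zeta s.val v.val) = hv v.val v.val := by
  decide +kernel

theorem cj_cj : ∀ a : K4, cj (cj a) = a := by decide +kernel

theorem cj_zero : cj 0 = 0 := by decide +kernel

theorem cj_one : cj 1 = 1 := by decide +kernel

theorem matP_form (t : Fin 8) (v : Fin 64) (s : Fin 2) :
    (matP t.val v.val s.val)ᵀ * anti * cjMat (matP t.val v.val s.val) = anti := by
  have h2 : (2 : K4) = 0 := CharTwo.two_eq_zero
  have he := eta_trace t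
  have hz := zeta_trace v s
  simp only [hv] at hz
  ext i j
  fin_cases i <;> fin_cases j <;>
    simp [matP, anti, cjMat, Matrix.mul_apply, Fin.sum_univ_five, row0, row1, row2, cj_add, cj_mul, cj_cj, cj_zero,
      cj_one] <;> grind

theorem matM_form (a : Mdl) : (matM a)ᵀ * anti * cjMat (matM a) = anti :=
  matP_form ⟨a.code.val / 128, by omega⟩ ⟨_, Nat.mod_lt _ (by norm_num)⟩ ⟨_, Nat.mod_lt _ (by norm_num)⟩

/-- The model in the unitary group. -/
noncomputable def embS : Mdl →* SU 5 K4 2 :=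
  MonoidHom.mk' (fun a => ⟨⟨bas * matM a * bas', (conj_det _).trans (matP_det _ _ _)⟩,
      fun u v => herm_of_iso (conj_iso (matM_form a)) u v⟩) fun a b => by
    refine Subtype.ext (Subtype.ext ?_)
    show bas * matM (a * b) * bas' = bas * matM a * bas' * (bas * matM b * bas')
    calc bas * matM (a * b) * bas' = bas * matM a * (bas' * bas) * matM b * bas' := by
          rw [bas_inv.1, mul_one, matM_mul]; simp only [mul_assoc]
      _ = _ := by noncomm_ring

theorem embS_mat (a : Mdl) : ((embS a).1 : Matrix (Fin 5) (Fin 5) K4) = bas * matM a * bas' := rfl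

theorem embS_injective : Function.Injective embS := fun a b h => matM_injective (by
  have e := congrArg (fun A : SU 5 K4 2 => bas' * (A.1 : Matrix (Fin 5) (Fin 5) K4) * bas) h
  simp only [embS_mat] at e
  simpa only [← mul_assoc, bas_inv.1, one_mul, mul_assoc _ bas' bas, mul_one] using e)

/-- An opposite transvection. -/
def oppM : Matrix (Fin 5) (Fin 5) K4 :=
  !![1, 0, 0, 0, 0; 0, 1, 0, 0, 0; 0, 0, 1, 0, 0; 0, 0, 0, 1, 0; 1, 0, 0, 0, 1]

theorem opp_facts : oppMᵀ * anti * cjMat oppM = anti ∧ oppM * matM (ofN 1) ≠ matM (ofN 1) * oppM := by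
  decide +kernel

theorem opp_det : oppM.det = 1 := by
  rw [Matrix.det_of_isLowerTriangular]
  · simp [Fin.prod_univ_five, oppM]
  · intro i j h
    have h' : i < j := h
    fin_cases i <;> fin_cases j <;> simp_all [oppM]

/-- The opposite transvection in the group. -/
noncomputable def oppS : SU 5 K4 2 :=
  ⟨⟨bas * oppM * bas', (conj_det _).trans opp_det⟩, fun u v => herm_of_iso (conj_iso opp_facts.1) u v⟩

theorem center_code : ∀ a : Mdl, a ≠ 1 → (∀ b : Fin 10, a * ofN (2 ^ b.val) = ofN (2 ^ b.val) * a) → a = ofN 1 := by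
  rw [forall_mdl]
  decide +kernel

/-- The model in the projective group. -/
noncomputable def embP : Mdl →* PSU 5 K4 2 := (QuotientGroup.mk' _).comp embS

theorem embP_injective : Function.Injective embP := by
  refine (injective_iff_map_eq_one _).2 fun a ha => ?_
  by_contra hne
  rw [embP, MonoidHom.comp_apply, QuotientGroup.mk'_apply, QuotientGroup.eq_one_iff,
    Subgroup.mem_center_iff] at ha
  obtain rfl := center_code a hne fun b => embS_injective (by
    rw [map_mul, map_mul]; exact (ha _).symm)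
  apply opp_facts.2
  have e := congrArg (fun A : SU 5 K4 2 => bas' * (A.1 : Matrix (Fin 5) (Fin 5) K4) * bas) (ha oppS)
  have e' : bas' * (bas * oppM * bas' * (bas * matM (ofN 1) * bas')) * bas =
      bas' * (bas * matM (ofN 1) * bas' * (bas * oppM * bas')) * bas := e
  simpa only [← mul_assoc, bas_inv.1, one_mul, mul_assoc _ bas' bas, mul_one] using e'

theorem card_psu : Nat.card (PSU 5 K4 2) = 13685760 := by
  have hK : Fintype.card K4 = 2 ^ 2 := Cfsg.Lib.PrimeGraph.KQuad.card_eq
  have h := Cfsg.Agent.S0280.result hK 5 (by norm_num)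
  simp only [Finset.prod_range_succ, Finset.prod_range_zero] at h
  norm_num [Nat.even_iff] at h
  omega

/-- Every Sylow 2-subgroup of PSU(5,2) is isomorphic to the model. -/
theorem sylow_equiv_model {F : Type*} [Field F] [Fintype F] (hF : Fintype.card F = 4)
    (P : Sylow 2 (PSU 5 F 2)) : Nonempty ((P : Subgroup (PSU 5 F 2)) ≃* Mdl) := by
  haveI : Fact (Nat.Prime 2) := ⟨Nat.prime_two⟩
  obtain ⟨e⟩ := psu_congr (n := 5) (q := 2)
    (FiniteField.ringEquivOfCardEq (K := F) (K' := K4) (hF.trans Cfsg.Lib.PrimeGraph.KQuad.card_eq.symm))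
  have hc : Nat.card (PSU 5 F 2) = 13685760 := (Nat.card_congr e.toEquiv).trans card_psu
  haveI : Finite (PSU 5 F 2) := Nat.finite_of_card_ne_zero (by omega)
  set f := e.symm.toMonoidHom.comp embP
  have hf : Function.Injective f := e.symm.injective.comp embP_injective
  have hr : Nat.card f.range = 2 ^ (Nat.card (PSU 5 F 2)).factorization 2 := by
    rw [Nat.card_congr (MonoidHom.ofInjective hf).toEquiv.symm, card_mdl, hc]
    have h5 : (13685760 : ℕ) = 2 ^ 10 * 13365 := by norm_num
    rw [h5, Nat.factorization_mul (by norm_num) (by norm_num), Finsupp.add_apply,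
      Nat.prime_two.factorization_pow, Finsupp.single_eq_same,
      Nat.factorization_eq_zero_of_not_dvd (by norm_num : ¬ 2 ∣ 13365)]
    norm_num
  obtain ⟨φ⟩ : Nonempty ((P : Subgroup (PSU 5 F 2)) ≃* f.range) :=
    ⟨(P.equiv (Sylow.ofCard f.range hr)).trans (MulEquiv.subgroupCongr rfl)⟩
  exact ⟨φ.trans (MonoidHom.ofInjective hf).symm⟩

end Cfsg.Lib.UFiveType
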