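import Cfsg.Agent.UFiveType.Model

/-!
# Facts on the model, checked by enumeration
-/

set_option autoImplicit false
set_option maxRecDepth 100000
set_option Elab.async false

namespace Cfsg.Lib.UFiveType

/-- In the extraspecial subgroup of order 128. -/
def qP (a : Mdl) : Prop := a.code.val < 128

/-- In the elementary abelian subgroup of order 16. -/
def eP (a : Mdl) : Prop := a.code.val &&& 888 = 0

instance : DecidablePred qP := fun a => inferInstanceAs (Decidable (a.code.val < 128))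
instance : DecidablePred eP := fun a => inferInstanceAs (Decidable (a.code.val &&& 888 = 0))

/-- The five squares of the centraliser of the elementary abelian subgroup. -/
def sgM (i : Fin 5) : Mdl := ofN (![1, 128, 131, 133, 135] i)

/-- The three classes in both subgroups. -/
def aR (k : Fin 3) : Mdl := ofN (2 + 2 * k.val)

/-- The three classes outside the elementary abelian subgroup. -/
def bR (k : Fin 3) : Mdl := ofN (32 * (k.val + 1))

/-- Centralising the elementary abelian subgroup. -/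
def rP (a : Mdl) : Prop := ∀ i : Fin 5, a * sgM i = sgM i * a

instance : DecidablePred rP := fun a => inferInstanceAs (Decidable (∀ i : Fin 5, a * sgM i = sgM i * a))

/-- The action on the five. -/
def v4 (k : Fin 4) (i : Fin 5) : Fin 5 :=
  ![![0, 1, 2, 3, 4], ![0, 2, 1, 4, 3], ![0, 3, 4, 1, 2], ![0, 4, 3, 2, 1]] k i

theorem forall_qP {P : Mdl → Prop} : (∀ a, qP a → P a) ↔ ∀ i : Fin 128, P (ofN i.val) := by
  constructor
  · intro h i
    exact h _ (show i.val % 1024 < 128 by omega)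
  · intro h a ha
    have e := h ⟨a.code.val, ha⟩
    have : ofN a.code.val = a := by
      cases a; exact congrArg Mdl.mk (Fin.ext (Nat.mod_eq_of_lt (by omega)))
    rwa [this] at e

theorem forall_eP {P : Mdl → Prop} : (∀ a, eP a → P a) ↔ ∀ i : Fin 16, P (ofN (i.val % 8 + 128 * (i.val / 8))) := by
  constructor
  · intro h i
    exact h _ (by revert i; decide +kernel)
  · intro h
    rw [forall_mdl]
    intro c hc
    have key : ∀ c : Fin 1024, c.val &&& 888 = 0 → ∃ i : Fin 16, i.val % 8 + 128 * (i.val / 8) = c.val := by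
      decide +kernel
    obtain ⟨i, hi⟩ := key c hc
    have e := h i
    rw [hi] at e
    have : ofN c.val = ⟨c⟩ := congrArg Mdl.mk (Fin.ext (Nat.mod_eq_of_lt c.isLt))
    rwa [this] at e

theorem qP_mul : ∀ a, qP a → ∀ b, qP b → qP (a * b) := by
  simp only [forall_qP]
  decide +kernel

theorem qP_inv : ∀ a, qP a → qP a⁻¹ := by
  simp only [forall_qP]
  decide +kernel

theorem qP_one : qP 1 := by decide +kernel

theorem top_mul : ∀ a b : Mdl, (a * b).code.val / 128 = tm (a.code.val / 128) (b.code.val / 128) := by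
  intro a b
  have hT := (tm_facts ⟨a.code.val / 128, by omega⟩ ⟨b.code.val / 128, by omega⟩).1
  have hx : a.code.val / 2 % 64 ^^^ act (a.code.val / 128) (b.code.val / 2 % 64) < 64 :=
    Nat.xor_lt_two_pow (n := 6) (Nat.mod_lt _ (by norm_num))
      (act_lt ⟨a.code.val / 128, by omega⟩ ⟨b.code.val / 2 % 64, Nat.mod_lt _ (by norm_num)⟩)
  simp only at hT
  rw [code_mul, mulN]
  omega

theorem tm_zero : ∀ t : Fin 8, tm t.val 0 = t.val := by decide +kernel

theorem qP_normal : ∀ a, qP a → ∀ g, qP (g * a * g⁻¹) := by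
  intro a ha g
  have h0 : a.code.val / 128 = 0 := Nat.div_eq_of_lt ha
  have h1 : (g * a * g⁻¹).code.val / 128 = (g * g⁻¹).code.val / 128 := by
    rw [top_mul, top_mul g a, h0, tm_zero ⟨g.code.val / 128, by omega⟩, top_mul g g⁻¹]
  rw [mul_inv_cancel] at h1
  exact (Nat.div_eq_zero_iff_lt (by norm_num)).1 (h1.trans (by decide +kernel))

theorem qP_sq : ∀ a, qP a → a * a = 1 ∨ a * a = sgM 0 := by
  simp only [forall_qP]
  decide +kernel

theorem qP_comm : ∀ a, qP a → ∀ b, qP b → a * b = b * a ∨ a * b = sgM 0 * (b * a) := by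
  simp only [forall_qP]
  decide +kernel

theorem qP_center : ∀ a, qP a → (∀ i : Fin 7, a * ofN (2 ^ i.val) = ofN (2 ^ i.val) * a) → a = 1 ∨ a = sgM 0 := by
  simp only [forall_qP]
  decide +kernel

theorem qP_bit : ∀ i : Fin 7, qP (ofN (2 ^ i.val)) := by decide +kernel

theorem eP_mul : ∀ a, eP a → ∀ b, eP b → eP (a * b) := by
  simp only [forall_eP]
  decide +kernel

theorem eP_inv : ∀ a, eP a → eP a⁻¹ := by
  simp only [forall_eP]
  decide +kernel

theorem eP_one : eP 1 := by decide +kernel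

theorem eP_comm : ∀ a, eP a → ∀ b, eP b → a * b = b * a := by
  simp only [forall_eP]
  decide +kernel

theorem eP_sq : ∀ a, eP a → a * a = 1 := by
  simp only [forall_eP]
  decide +kernel

theorem eP_cases : ∀ a, eP a → a = 1 ∨ (∃ i : Fin 5, a = sgM i) ∨ ∃ i j : Fin 5, i < j ∧ a = sgM i * sgM j := by
  simp only [forall_eP]
  decide +kernel

theorem sgM_eP : ∀ i : Fin 5, eP (sgM i) := by decide +kernel

theorem sgM_inj : Function.Injective sgM := by decide +kernel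

theorem sgM_pair_ne : ∀ i j l : Fin 5, i ≠ j → sgM i * sgM j ≠ sgM l ∧ sgM i * sgM j ≠ 1 := by decide +kernel

theorem sgM_pair_eq : ∀ i j k l : Fin 5, i ≠ j → sgM i * sgM j = sgM k * sgM l → k ≠ l →
    (k = i ∧ l = j) ∨ (k = j ∧ l = i) := by decide +kernel

theorem sgM_qP : ∀ i : Fin 5, (qP (sgM i) ↔ i = 0) ∧ (qP (sgM 0 * sgM i) ↔ i = 0) ∧ sgM i ≠ 1 := by decide +kernel

theorem pair_qP : ∀ i j : Fin 5, i ≠ 0 → j ≠ 0 → qP (sgM i * sgM j) := by decide +kernel

theorem aR_pair : aR 0 = sgM 3 * sgM 4 ∧ aR 1 = sgM 2 * sgM 4 ∧ aR 2 = sgM 2 * sgM 3 ∧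
    sgM 0 * aR 0 = sgM 1 * sgM 2 := by decide +kernel

theorem mdl_center : ∀ a g : Mdl, a = sgM 0 → a * g = g * a := by
  intro a g h
  subst h
  revert g
  rw [forall_mdl]
  decide +kernel

theorem invol_cases : ∀ a : Mdl, a * a = 1 → eP a ∨ qP a := by
  rw [forall_mdl]
  decide +kernel

theorem rP_invol : ∀ a : Mdl, rP a → a * a = 1 → eP a := by
  rw [forall_mdl]
  decide +kernel

theorem rP_sq : ∀ a : Mdl, rP a → a * a = 1 ∨ ∃ i, a * a = sgM i := by
  rw [forall_mdl]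
  decide +kernel

theorem sgM_square : ∀ i : Fin 5, ∃ c : Fin 1024, rP ⟨c⟩ ∧ (⟨c⟩ : Mdl) * ⟨c⟩ = sgM i := by decide +kernel

theorem conj_sgM : ∀ g : Mdl, ∃ k : Fin 4, ∀ i, g * sgM i * g⁻¹ = sgM (v4 k i) := by
  rw [forall_mdl]
  decide +kernel

theorem conj_bR_sgM : ∀ k : Fin 3, ∀ i, bR k * sgM i * (bR k)⁻¹ = sgM (v4 k.succ i) := by decide +kernel

theorem bR_facts : ∀ k : Fin 3, qP (bR k) ∧ ¬ eP (bR k) ∧ bR k * bR k = 1 ∧ bR k ≠ 1 ∧
    bR k * aR k = aR k * bR k := by decide +kernel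

theorem aR_facts : ∀ k : Fin 3, qP (aR k) ∧ eP (aR k) ∧ aR k ≠ 1 ∧ aR k ≠ sgM 0 := by decide +kernel

theorem eP_normal : ∀ a, eP a → ∀ g, eP (g * a * g⁻¹) := by
  intro a ha g
  obtain ⟨k, hk⟩ := conj_sgM g
  rcases eP_cases a ha with rfl | ⟨i, rfl⟩ | ⟨i, j, -, rfl⟩
  · rw [mul_one, mul_inv_cancel]; exact eP_one
  · rw [hk]; exact sgM_eP _
  · rw [show g * (sgM i * sgM j) * g⁻¹ = g * sgM i * g⁻¹ * (g * sgM j * g⁻¹) by group, hk, hk]
    exact eP_mul _ (sgM_eP _) _ (sgM_eP _)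

/-- The representatives of the involution classes. -/
def iRep (c : Fin 8) : Mdl := ![aR 0, aR 1, aR 2, bR 0, bR 1, bR 2, sgM 1, sgM 0 * sgM 1] c

/-- Enough conjugating elements for the involution classes. -/
def conjW (w : Fin 24) : Mdl :=
  ofN (![0, 160, 320, 480, 512, 640, 768, 896, 2, 128, 256, 384, 514, 642, 770, 898,
    4, 132, 260, 388, 516, 644, 772, 900] w)

theorem invol_class : ∀ a : Mdl, a * a = 1 → a = 1 ∨ a = sgM 0 ∨
    ∃ c : Fin 8, ∃ w : Fin 24, a = conjW w * iRep c * (conjW w)⁻¹ := by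
  rw [forall_mdl]
  decide +kernel

theorem bR_cent_sq : ∀ k : Fin 3, ∀ a : Mdl, a * bR k = bR k * a → a * a = 1 ∨ a * a = sgM 0 := by
  simp only [forall_mdl]
  decide +kernel

theorem bR_cent_invol : ∀ k : Fin 3, ∀ a : Mdl, a * bR k = bR k * a → a * a = 1 → qP a ∧
    (eP a → a = 1 ∨ a = sgM 0 ∨ a = aR k ∨ a = sgM 0 * aR k) := by
  simp only [forall_mdl]
  decide +kernel

theorem bR_cent_witness : ∀ k : Fin 3,
    (∃ c : Fin 1024, (⟨c⟩ : Mdl) * bR k = bR k * ⟨c⟩ ∧ (⟨c⟩ : Mdl) * ⟨c⟩ = sgM 0) ∧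
    ∃ c d : Fin 128, ofN c.val * bR k = bR k * ofN c.val ∧ ofN d.val * bR k = bR k * ofN d.val ∧
      ofN c.val * ofN c.val = 1 ∧ ofN d.val * ofN d.val = 1 ∧ ofN c.val * ofN d.val ≠ ofN d.val * ofN c.val := by
  decide +kernel

theorem aR_cent_invol : ∀ k : Fin 3, ∀ a : Mdl, a * aR k = aR k * a → a * a = 1 → ¬ eP a →
    ∃ g : Fin 1024, a = ⟨g⟩ * bR k * (⟨g⟩ : Mdl)⁻¹ := by
  simp only [forall_mdl]
  decide +kernel

theorem aR_cent_count : ∀ k : Fin 3,
    (Finset.univ.filter fun a : Fin 1024 => (⟨a⟩ : Mdl) * aR k = aR k * ⟨a⟩ ∧ (⟨a⟩ : Mdl) * ⟨a⟩ = 1 ∧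
      ¬ eP ⟨a⟩).card = 16 := by
  decide +kernel

theorem cent_cards : (∀ i : Fin 5, i ≠ 0 →
      (Finset.univ.filter fun a : Fin 1024 => (⟨a⟩ : Mdl) * sgM i = sgM i * ⟨a⟩).card = 256) ∧
    (∀ k : Fin 3, (Finset.univ.filter fun a : Fin 1024 => (⟨a⟩ : Mdl) * aR k = aR k * ⟨a⟩).card = 512) ∧
    ∀ k : Fin 3, (Finset.univ.filter fun a : Fin 1024 => (⟨a⟩ : Mdl) * bR k = bR k * ⟨a⟩).card = 64 := by
  decide +kernel

theorem set_cards : (Finset.univ.filter fun a : Fin 1024 => eP ⟨a⟩).card = 16 ∧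
    (Finset.univ.filter fun a : Fin 1024 => qP ⟨a⟩).card = 128 ∧
    (Finset.univ.filter fun a : Fin 1024 => rP ⟨a⟩).card = 256 ∧
    (Finset.univ.filter fun a : Fin 1024 => rP ⟨a⟩ ∧ qP ⟨a⟩).card = 32 := by
  decide +kernel

theorem weak_bound : ∀ k : Fin 3, ∀ x, qP x → x * x = 1 → x * bR k = bR k * x →
    x = 1 ∨ x = sgM 0 ∨ x = bR k ∨ x = sgM 0 * bR k ∨
    (Finset.univ.filter fun u : Fin 128 => ofN u.val * ofN u.val = 1 ∧ ofN u.val * bR k = bR k * ofN u.val ∧
      ofN u.val * x = x * ofN u.val).card < 16 := by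
  simp only [forall_qP]
  decide +kernel

/-- Commuting with `u` up to the centre. -/
def hP (u g : Mdl) : Prop := g * u = u * g ∨ g * u = sgM 0 * (u * g)

instance (u : Mdl) : DecidablePred (hP u) := fun g =>
  inferInstanceAs (Decidable (g * u = u * g ∨ g * u = sgM 0 * (u * g)))

theorem square_z : ∀ u : Mdl, u * u = sgM 0 → qP u ∨ rP u := by
  rw [forall_mdl]
  decide +kernel

theorem bR_noncomm : bR 0 * aR 1 ≠ aR 1 * bR 0 := by decide +kernel

theorem top_quaternion : ∀ a : Mdl, ¬ qP a → qP (sgM 1 * a) ∨ qP (sgM 1 * (a * a)) := by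
  rw [forall_mdl]
  decide +kernel

theorem square_not_qP : ∃ c : Fin 1024, ¬ qP ((⟨c⟩ : Mdl) * ⟨c⟩) := by decide +kernel

theorem qP_conj_sgM : ∀ q, qP q → q * sgM 1 * q⁻¹ ≠ sgM 0 * sgM 1 := by
  simp only [forall_qP]
  decide +kernel

theorem qr_cent : ∀ x, qP x → x * aR 0 = aR 0 * x → x * aR 1 = aR 1 * x → rP x := by
  simp only [forall_qP]
  decide +kernel

end Cfsg.Lib.UFiveType
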