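import Cfsg.Agent.UFiveType.Facts

/-!
# Facts on the square roots of the central involution
-/

set_option autoImplicit false
set_option maxRecDepth 100000
set_option Elab.async false

namespace Cfsg.Lib.UFiveType

theorem square_z_outside : ∀ u : Mdl, u * u = sgM 0 → ¬ qP u →
    (Finset.univ.filter fun g : Fin 1024 => hP u ⟨g⟩).card = 256 ∧
      ∀ g : Fin 1024, hP u ⟨g⟩ → (⟨g⟩ : Mdl) * ⟨g⟩ = 1 → eP ⟨g⟩ := by
  rw [forall_mdl]
  decide +kernel

theorem square_z_inside : ∀ u, qP u → u * u = sgM 0 →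
    (Finset.univ.filter fun g : Fin 1024 => hP u ⟨g⟩).card ≤ 256 := by
  simp only [forall_qP]
  decide +kernel

theorem qr_comm : ∀ x, qP x → rP x → ∀ g : Mdl, rP g → eP (g * x * g⁻¹ * x⁻¹) := by
  simp only [forall_qP, forall_mdl]
  decide +kernel

end Cfsg.Lib.UFiveType
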