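import Cfsg.Agent.UFiveType.Facts

/-!
# Facts on the vectors of the extraspecial subgroup
-/

set_option autoImplicit false
set_option maxRecDepth 100000
set_option synthInstance.maxSize 1024
set_option Elab.async false

namespace Cfsg.Lib.UFiveType

/-- A normal subgroup of the model reaches `E` from a vector. -/
theorem qP_step : ∀ v, qP v → v = 1 ∨ v = sgM 0 ∨ eP v ∨ ∃ i : Fin 10,
    eP (ofN (2 ^ i.val) * v * (ofN (2 ^ i.val))⁻¹ * v⁻¹) ∧
      ofN (2 ^ i.val) * v * (ofN (2 ^ i.val))⁻¹ * v⁻¹ ≠ 1 ∧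
      ofN (2 ^ i.val) * v * (ofN (2 ^ i.val))⁻¹ * v⁻¹ ≠ sgM 0 := by
  simp only [forall_qP]
  decide +kernel

theorem qP_two_invol : ∀ v, qP v → ∃ c : Fin 128, ofN c.val * ofN c.val = 1 ∧
    ofN c.val * v * (ofN c.val * v) = 1 := by
  simp only [forall_qP]
  decide +kernel

/-- `x` is one of the eight elements over the line of `a` and `b`. -/
def inLine (a b x : Mdl) : Prop :=
  x = 1 ∨ x = sgM 0 ∨ x = a ∨ x = sgM 0 * a ∨ x = b ∨ x = sgM 0 * b ∨ x = a * b ∨ x = sgM 0 * (a * b)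

instance (a b : Mdl) : DecidablePred (inLine a b) := fun x => inferInstanceAs (Decidable
  (x = 1 ∨ x = sgM 0 ∨ x = a ∨ x = sgM 0 * a ∨ x = b ∨ x = sgM 0 * b ∨ x = a * b ∨ x = sgM 0 * (a * b)))

/-- The conjugating elements for the lines. -/
def lineW (w : Fin 4) : Mdl := ofN (![128, 256, 512, 768] w)

theorem line_moved : ∀ i j : Fin 64, ∀ a b : Mdl, a = ofN (2 * i.val) → b = ofN (2 * j.val) →
    a * a = sgM 0 → b * b = sgM 0 → a * b ≠ b * a → ∃ w : Fin 4,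
      ¬ inLine a b (lineW w * a * (lineW w)⁻¹) ∧
        (lineW w * a * (lineW w)⁻¹ * a ≠ a * (lineW w * a * (lineW w)⁻¹) ∨
          lineW w * a * (lineW w)⁻¹ * b ≠ b * (lineW w * a * (lineW w)⁻¹)) := by
  have key : ∀ i j : Fin 64, ofN (2 * i.val) * ofN (2 * i.val) = sgM 0 → ofN (2 * j.val) * ofN (2 * j.val) = sgM 0 →
      ofN (2 * i.val) * ofN (2 * j.val) ≠ ofN (2 * j.val) * ofN (2 * i.val) → ∃ w : Fin 4,
      ¬ inLine (ofN (2 * i.val)) (ofN (2 * j.val)) (lineW w * ofN (2 * i.val) * (lineW w)⁻¹) ∧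
        (lineW w * ofN (2 * i.val) * (lineW w)⁻¹ * ofN (2 * i.val) ≠
          ofN (2 * i.val) * (lineW w * ofN (2 * i.val) * (lineW w)⁻¹) ∨
          lineW w * ofN (2 * i.val) * (lineW w)⁻¹ * ofN (2 * j.val) ≠
          ofN (2 * j.val) * (lineW w * ofN (2 * i.val) * (lineW w)⁻¹)) := by decide +kernel
  rintro i j a b rfl rfl
  exact key i j

theorem qP_even : ∀ v, qP v → ∃ i : Fin 64, v = ofN (2 * i.val) ∨ v = sgM 0 * ofN (2 * i.val) := by
  simp only [forall_qP]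
  decide +kernel

theorem eq_comm_sgM : ∀ a, eP a → qP a → ∃ c : Fin 128,
    a = ofN c.val * sgM 1 * (ofN c.val)⁻¹ * sgM 1 ∨ a = sgM 0 * (ofN c.val * sgM 1 * (ofN c.val)⁻¹ * sgM 1) := by
  simp only [forall_eP]
  decide +kernel

end Cfsg.Lib.UFiveType
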