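import Cfsg.Agent.UFiveType.Basic
import Mathlib.GroupTheory.SpecificGroups.Alternating.Simple

/-!
# The normaliser of `E` permutes the five, evenly
-/

set_option autoImplicit false
set_option linter.style.haveILetI false
set_option linter.unusedSectionVars false
set_option synthInstance.maxSize 1024
set_option maxRecDepth 100000

namespace Cfsg.Lib.UFiveType

open Subgroup Cfsg.Lib.InvolCalc

universe u

variable {G : Type u} [Group G] [Finite G] {φ : Mdl →* G}

/-- The three double transpositions fixing the first of the five. -/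
def dperm (k : Fin 3) : Equiv.Perm (Fin 5) :=
  ![Equiv.swap 1 2 * Equiv.swap 3 4, Equiv.swap 1 3 * Equiv.swap 2 4, Equiv.swap 1 4 * Equiv.swap 2 3] k

theorem dperm_facts : ∀ k : Fin 3, Equiv.Perm.sign (dperm k) = 1 ∧ dperm k ≠ 1 ∧
    ∀ i, dperm k i = v4 k.succ i := by decide +kernel

theorem v4_zero : ∀ i : Fin 5, v4 0 i = i := by decide +kernel

theorem sgU_inj (h : Frame φ) : Function.Injective (sgU φ) := fun _ _ e => sgM_inj (h.inj e)

theorem range_act {x : G} (hx : x ∈ φ.range) :
    ∃ k : Fin 4, ∀ i, x * sgU φ i * x⁻¹ = sgU φ (v4 k i) := by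
  obtain ⟨m, rfl⟩ := hx
  obtain ⟨k, hk⟩ := conj_sgM m
  exact ⟨k, fun i => by rw [sgU, sgU, ← hk i]; simp⟩

namespace Frame

variable (h : Frame φ)
include h

theorem conj_five {n : G} (hn : n ∈ normalizer (eU φ : Set G)) (i : Fin 5) :
    ∃ j, n * sgU φ i * n⁻¹ = sgU φ j := by
  set M := normalizer (eU φ : Set G) ⊓ normalizer (Set.range (sgU φ)) with hM
  have hfix : ∀ {x : G}, (∀ i, ∃ j, x * sgU φ i * x⁻¹ = sgU φ j) → x ∈ normalizer (Set.range (sgU φ)) := by
    intro x hx
    choose f hf using hx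
    have hfi : Function.Injective f := fun a b e => sgU_inj h (by
      have := (hf a).trans ((congrArg (sgU φ) e).trans (hf b).symm)
      exact mul_left_cancel (mul_right_cancel this))
    rw [mem_set_normalizer_iff]
    intro y
    constructor
    · rintro ⟨i, rfl⟩
      exact ⟨f i, (hf i).symm⟩
    · rintro ⟨j, hj⟩
      obtain ⟨i, rfl⟩ := (Finite.injective_iff_surjective.1 hfi) j
      rw [← hf i] at hj
      exact ⟨i, mul_left_cancel (mul_right_cancel hj)⟩
  have hrM : φ.range ≤ M := fun x hx => ⟨h.range_le_norm hx, hfix fun i => by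
    obtain ⟨k, hk⟩ := range_act hx
    exact ⟨_, hk i⟩⟩
  have hCM : centralizer (eU φ : Set G) ≤ M := fun x hx => by
    have hc : ∀ y ∈ eU φ, x * y * x⁻¹ = y := fun y hy => by
      rw [← mem_centralizer_iff.1 hx y hy, mul_inv_cancel_right]
    exact ⟨ZStarApps.mem_normalizer_of_maps fun y hy => by rw [hc y hy]; exact hy,
      hfix fun i => ⟨i, hc _ (h.sgU_mem i)⟩⟩
  set V := (rU φ).map (MulAut.conj n).toMonoidHom
  have hVC : V ≤ centralizer (eU φ : Set G) := by
    rintro _ ⟨r, hr, rfl⟩
    rw [mem_centralizer_iff]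
    intro e he
    have h1 := mem_centralizer_iff.1 (h.rU_le hr) _ ((mem_normalizer_iff.1 (inv_mem hn) e).1 he)
    rw [inv_inv] at h1
    show e * (n * r * n⁻¹) = n * r * n⁻¹ * e
    calc e * (n * r * n⁻¹) = n * (n⁻¹ * e * n * r) * n⁻¹ := by group
      _ = n * (r * (n⁻¹ * e * n)) * n⁻¹ := by rw [h1]
      _ = _ := by group
  have hV : IsPGroup 2 V := (h.isPGroup.to_le (map_le_range φ rM)).map _
  obtain ⟨g, hg, hgV⟩ := h.into_range hV (hVC.trans hCM) hrM
  obtain ⟨c, hc, hsq⟩ := sgM_square i
  set v := g * (n * φ ⟨c⟩ * n⁻¹) * g⁻¹ with hv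
  obtain ⟨m, hm⟩ := hgV _ ⟨φ ⟨c⟩, mem_map_of_mem φ hc, rfl⟩
  have hm' : φ m = v := hm
  have hsqv : v * v = g * (n * sgU φ i * n⁻¹) * g⁻¹ := by
    rw [hv, sgU, ← hsq, map_mul]; group
  have hrm : rP m := fun l => h.inj (by
    rw [map_mul, map_mul, hm']
    have hvC : v ∈ centralizer (eU φ : Set G) := by
      rw [mem_centralizer_iff]
      intro e he
      have h2 := mem_centralizer_iff.1 (hVC ⟨φ ⟨c⟩, mem_map_of_mem φ hc, rfl⟩) _
        ((mem_normalizer_iff.1 (inv_mem hg.1) e).1 he)
      rw [inv_inv] at h2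
      calc e * v = g * (g⁻¹ * e * g * (n * φ ⟨c⟩ * n⁻¹)) * g⁻¹ := by rw [hv]; group
        _ = g * (n * φ ⟨c⟩ * n⁻¹ * (g⁻¹ * e * g)) * g⁻¹ := congrArg (fun t => g * t * g⁻¹) h2
        _ = v * e := by rw [hv]; group
    exact (mem_centralizer_iff.1 hvC _ (h.sgU_mem l)).symm)
  rcases rP_sq m hrm with e | ⟨j, e⟩
  · exfalso
    apply (sgM_qP i).2.2
    apply h.inj
    have e' := congrArg φ e
    rw [map_mul, hm', hsqv, map_one] at e'
    rw [map_one]
    exact conj_eq_one_iff.1 (conj_eq_one_iff.1 e')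
  · have e' := congrArg φ e
    rw [map_mul, hm', hsqv] at e'
    obtain ⟨l, hl⟩ := ((mem_set_normalizer_iff.1 hg.2) (n * sgU φ i * n⁻¹)).2 ⟨j, e'.symm⟩
    exact ⟨l, hl.symm⟩

/-- The permutation of the five. -/
noncomputable def perm (n : normalizer (eU φ : Set G)) : Equiv.Perm (Fin 5) :=
  Equiv.ofBijective (fun i => (h.conj_five n.2 i).choose) (Finite.injective_iff_bijective.1 fun i j e => by
    have e : (h.conj_five n.2 i).choose = (h.conj_five n.2 j).choose := e
    have h1 := (h.conj_five n.2 i).choose_spec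
    rw [e, ← (h.conj_five n.2 j).choose_spec] at h1
    exact sgU_inj h (mul_left_cancel (mul_right_cancel h1)))

theorem perm_spec (n : normalizer (eU φ : Set G)) (i : Fin 5) :
    (n : G) * sgU φ i * (n : G)⁻¹ = sgU φ (h.perm n i) :=
  (h.conj_five n.2 i).choose_spec

/-- The permutation action. -/
noncomputable def permHom : normalizer (eU φ : Set G) →* Equiv.Perm (Fin 5) :=
  MonoidHom.mk' h.perm fun a b => Equiv.ext fun i => sgU_inj h (by
    rw [← h.perm_spec, Equiv.Perm.mul_apply, ← h.perm_spec, ← h.perm_spec, Subgroup.coe_mul]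
    group)

theorem permHom_range_act {x : normalizer (eU φ : Set G)} (hx : (x : G) ∈ φ.range) :
    ∃ k : Fin 4, ∀ i, h.permHom x i = v4 k i := by
  obtain ⟨k, hk⟩ := range_act hx
  exact ⟨k, fun i => sgU_inj h ((h.perm_spec x i).symm.trans (hk i))⟩

theorem v4_real (k : Fin 3) : ∃ x : normalizer (eU φ : Set G), (x : G) ∈ φ.range ∧ h.permHom x = dperm k := by
  refine ⟨⟨φ (bR k), h.range_le_norm ⟨_, rfl⟩⟩, ⟨_, rfl⟩, Equiv.ext fun i => sgU_inj h ?_⟩
  refine (h.perm_spec _ i).symm.trans ?_
  rw [(dperm_facts k).2.2, sgU, sgU, ← conj_bR_sgM k i]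
  simp

theorem sign_eq_one (n : normalizer (eU φ : Set G)) : Equiv.Perm.sign (h.permHom n) = 1 := by
  haveI : Fact (Nat.Prime 2) := ⟨Nat.prime_two⟩
  obtain ⟨S, hS⟩ := h.sylow
  set s : normalizer (eU φ : Set G) →* ℤˣ := Equiv.Perm.sign.comp h.permHom
  have hSN : (S : Subgroup G) ≤ normalizer (eU φ : Set G) := hS ▸ h.range_le_norm
  have hker : (S : Subgroup G).subgroupOf (normalizer (eU φ : Set G)) ≤ s.ker := by
    intro x hx
    have hx' : (x : G) ∈ φ.range := hS ▸ hx
    obtain ⟨k, hk⟩ := h.permHom_range_act hx'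
    have key : ∀ σ : Equiv.Perm (Fin 5), ∀ k : Fin 4, (∀ i, σ i = v4 k i) → Equiv.Perm.sign σ = 1 := by
      intro σ k hσ
      induction k using Fin.cases with
      | zero => rw [show σ = 1 from Equiv.ext fun i => (hσ i).trans (v4_zero i)]; exact map_one _
      | succ k => rw [show σ = dperm k from Equiv.ext fun i => (hσ i).trans ((dperm_facts k).2.2 i).symm]
                  exact (dperm_facts k).1
    exact MonoidHom.mem_ker.2 (key _ k hk)
  have hodd : ¬ 2 ∣ ((S : Subgroup G).subgroupOf (normalizer (eU φ : Set G))).index := by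
    intro h2
    have hdvd : ((S : Subgroup G).subgroupOf (normalizer (eU φ : Set G))).index ∣ (S : Subgroup G).index := by
      rw [← relIndex_mul_index hSN]
      exact dvd_mul_right _ _
    exact S.not_dvd_index (h2.trans hdvd)
  have h1 : s.ker.index ∣ ((S : Subgroup G).subgroupOf (normalizer (eU φ : Set G))).index := index_dvd_of_le hker
  rw [index_ker] at h1
  show s n = 1
  rcases Int.units_eq_one_or (s n) with e | e
  · exact e
  · exfalso
    refine hodd (dvd_trans ?_ h1)
    have h2 : orderOf (⟨s n, n, rfl⟩ : s.range) = 2 := by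
      rw [← Subgroup.orderOf_coe]
      show orderOf (s n) = 2
      rw [e]
      exact orderOf_eq_prime (by decide) (by decide)
    rw [← h2]
    exact orderOf_dvd_natCard _

end Frame

/-- A transitive group of even permutations of five points with the three double transpositions fixing one point
is the alternating group. -/
theorem onto_of_transitive (H : Subgroup (Equiv.Perm (Fin 5))) (hA : H ≤ alternatingGroup (Fin 5))
    (hd : ∀ k, dperm k ∈ H) (ht : ∀ i, ∃ σ ∈ H, σ 0 = i) : H = alternatingGroup (Fin 5) := by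
  classical
  refine le_antisymm hA ?_
  have hc60 : Nat.card (alternatingGroup (Fin 5)) = 60 := by
    rw [nat_card_alternatingGroup, Nat.card_fin]
    norm_num [Nat.factorial]
  set A := alternatingGroup (Fin 5)
  set H' := H.subgroupOf A
  have hcH : Nat.card H' = Nat.card H := Nat.card_congr (subgroupOfEquivOfLe hA).toEquiv
  have h60 : Nat.card H ∣ 60 := hc60 ▸ card_dvd_of_le hA
  have horb : MulAction.orbit H (0 : Fin 5) = Set.univ := Set.eq_univ_of_forall fun i => by
    obtain ⟨σ, hσ, e⟩ := ht i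
    exact ⟨⟨σ, hσ⟩, e⟩
  have h5 : Nat.card H = 5 * Nat.card (MulAction.stabilizer H (0 : Fin 5)) := by
    rw [← (MulAction.stabilizer H (0 : Fin 5)).card_mul_index, mul_comm, MulAction.index_stabilizer,
      horb, Set.ncard_univ, Nat.card_fin]
  have h4 : 4 ≤ Nat.card (MulAction.stabilizer H (0 : Fin 5)) := by
    have hfix : ∀ k, dperm k 0 = 0 := by decide +kernel
    let f : Option (Fin 3) → MulAction.stabilizer H (0 : Fin 5) := fun o =>
      o.elim 1 fun k => ⟨⟨dperm k, hd k⟩, hfix k⟩
    have hinj : ∀ o o' : Option (Fin 3), o.elim 1 dperm = o'.elim 1 dperm → o = o' := by decide +kernel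
    have hf : Function.Injective f := fun o o' e => hinj o o' (by
      have e' : (((f o : MulAction.stabilizer H (0 : Fin 5)) : H) : Equiv.Perm (Fin 5)) =
        (((f o' : MulAction.stabilizer H (0 : Fin 5)) : H) : Equiv.Perm (Fin 5)) := by rw [e]
      cases o <;> cases o' <;> exact e')
    have := Nat.card_le_card_of_injective f hf
    simpa using this
  rcases eq_or_ne (Nat.card H) 60 with e | e
  · exact (eq_of_le_of_card_ge hA (by rw [e, hc60])).ge
  exfalso
  have hlt : Nat.card H = 20 ∨ Nat.card H = 30 := by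
    have hle : Nat.card H ≤ 60 := Nat.le_of_dvd (by norm_num) h60
    have hs : Nat.card (MulAction.stabilizer H (0 : Fin 5)) ≤ 12 := by omega
    generalize Nat.card (MulAction.stabilizer H (0 : Fin 5)) = s at h5 h4 hs
    rw [h5] at h60 e ⊢
    interval_cases s <;> revert h60 e <;> norm_num
  have hidx : H'.index ≤ 3 := by
    have := H'.card_mul_index
    rw [hcH, hc60] at this
    rcases hlt with e' | e' <;> rw [e'] at this <;> omega
  haveI : IsSimpleGroup A := alternatingGroup.isSimpleGroup (by simp)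
  have hcore : H'.normalCore = ⊥ := (IsSimpleGroup.eq_bot_or_eq_top_of_normal _ inferInstance).resolve_right
    fun e' => by
      have h1 : H' = ⊤ := eq_top_iff.2 (e' ▸ H'.normalCore_le)
      rw [h1, card_top, hc60] at hcH
      omega
  have hinj : Function.Injective (MulAction.toPermHom A (A ⧸ H')) := by
    rw [← MonoidHom.ker_eq_bot_iff, ← Subgroup.normalCore_eq_ker, hcore]
  have h6 := Nat.card_le_card_of_injective _ hinj
  rw [hc60, Nat.card_perm] at h6
  change 60 ≤ H'.index.factorial at h6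
  have := Nat.factorial_le hidx
  norm_num [Nat.factorial] at this
  omega

end Cfsg.Lib.UFiveType
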