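import Cfsg.Agent.UFiveType.Five

/-!
# An involution outside `E` with a larger centraliser is fused into `E` inside `C(z)`
-/

set_option autoImplicit false
set_option linter.style.haveILetI false
set_option linter.unusedSectionVars false
set_option synthInstance.maxSize 1024
set_option maxRecDepth 100000

namespace Cfsg.Lib.UFiveType

open Subgroup Cfsg.Lib.InvolCalc

universe u

variable {G : Type u} [Group G] [Finite G] {φ : Mdl →* G}

theorem sgM_zero_mul_self : sgM 0 * sgM 0 = 1 := eP_sq _ (sgM_eP 0)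

theorem conj_cent_card (g x : Mdl) :
    Nat.card (centralizer ({g * x * g⁻¹} : Set Mdl)) = Nat.card (centralizer ({x} : Set Mdl)) := by
  refine Nat.card_congr ((MulAut.conj g).toEquiv.subtypeEquiv fun a => ?_).symm
  rw [mem_centralizer_singleton_iff, mem_centralizer_singleton_iff]
  show a * x = x * a ↔ g * a * g⁻¹ * (g * x * g⁻¹) = g * x * g⁻¹ * (g * a * g⁻¹)
  rw [← (MulAut.conj g).injective.eq_iff, map_mul, map_mul]
  rfl

theorem card_cent_bR (k : Fin 3) : Nat.card (centralizer ({bR k} : Set Mdl)) = 64 :=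
  (card_centralizer_mdl _).trans (cent_cards.2.2 k)

theorem rep_cases : ∀ i : Fin 8,
    (∃ l, iRep i = aR l) ∨ (∃ l, iRep i = bR l) ∨ (eP (iRep i) ∧ ¬ qP (iRep i)) := by decide +kernel

theorem rep_cases_two : ∀ i : Fin 8, (∃ l, iRep i = bR l) ∨ eP (iRep i) := by decide +kernel

namespace Frame

variable (h : Frame φ)
include h

theorem fused_of_big (k : Fin 3) {U : Subgroup G} (hU : IsPGroup 2 U)
    (hUc : U ≤ centralizer ({φ (bR k)} : Set G)) (h64 : 64 < Nat.card U) :
    ∃ l, ∃ c ∈ cU φ, c * φ (bR k) * c⁻¹ = φ (aR l) := by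
  haveI : Fact (Nat.Prime 2) := ⟨Nat.prime_two⟩
  set b := φ (bR k)
  set H := centralizer ({b} : Set G)
  set D := (centralizer ({bR k} : Set Mdl)).map φ with hD
  have hDH : D ≤ H := by
    rintro _ ⟨a, ha, rfl⟩
    rw [mem_centralizer_singleton_iff, ← map_mul, ← map_mul, mem_centralizer_singleton_iff.1 ha]
  have hDc : Nat.card D = 64 := (h.card_map_eq _).trans (card_cent_bR k)
  have hDp : IsPGroup 2 D := h.isPGroup.to_le (map_le_range φ _)
  obtain ⟨T, hT⟩ := (hDp.of_injective (subgroupOfEquivOfLe hDH).toMonoidHom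
    (subgroupOfEquivOfLe hDH).injective).exists_le_sylow
  set T' := (T : Subgroup H).map H.subtype with hT'
  have hDT : D ≤ T' := fun x hx => ⟨⟨x, hDH hx⟩, hT hx, rfl⟩
  have hbig : 64 < Nat.card T' := by
    obtain ⟨R, hR⟩ := (hU.of_injective (subgroupOfEquivOfLe hUc).toMonoidHom
      (subgroupOfEquivOfLe hUc).injective).exists_le_sylow
    have h1 : Nat.card U ≤ Nat.card (R : Subgroup H) := by
      rw [← Nat.card_congr (subgroupOfEquivOfLe hUc).toEquiv]
      exact card_le_of_le hR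
    rw [hT', card_map_of_injective H.subtype_injective, Nat.card_congr (T.equiv R).toEquiv]
    omega
  have hTp : IsPGroup 2 T' := T.isPGroup'.map _
  haveI : Group.IsNilpotent T' := hTp.isNilpotent
  have hlt : D.subgroupOf T' < ⊤ := lt_top_iff_ne_top.2 fun e => by
    have := card_le_of_le (subgroupOf_eq_top.1 e)
    omega
  obtain ⟨⟨g, hgT⟩, hgn, hgD⟩ := SetLike.exists_of_lt (Group.normalizerCondition_of_isNilpotent _ hlt)
  have hgD' : g ∉ D := hgD
  have hgb : g * b = b * g := by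
    obtain ⟨x, -, rfl⟩ := hgT
    exact mem_centralizer_singleton_iff.1 x.2
  obtain ⟨⟨c₀, hc₀, hc₀sq⟩, c₁, c₂, hc1, hc2, hc1s, hc2s, hne⟩ := bR_cent_witness k
  have hgz : g ∈ cU φ := by
    rw [cU, mem_centralizer_singleton_iff]
    have hx : φ ⟨c₀⟩ ∈ D := mem_map_of_mem φ (mem_centralizer_singleton_iff.2 hc₀)
    have hy : g * φ ⟨c₀⟩ * g⁻¹ ∈ D :=
      (mem_normalizer_iff.1 hgn ⟨φ ⟨c₀⟩, hDT hx⟩).1 hx
    obtain ⟨m, hm, hme⟩ := hy
    have hsq : φ (m * m) = g * zU φ * g⁻¹ := by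
      rw [map_mul, hme, zU, ← hc₀sq, map_mul]; group
    rcases bR_cent_sq k m (mem_centralizer_singleton_iff.1 hm) with e | e
    · exfalso
      apply (sgM_qP 0).2.2
      apply h.inj
      rw [e, map_one] at hsq
      rw [map_one]
      exact conj_eq_one_iff.1 hsq.symm
    · rw [e] at hsq
      exact (mul_inv_eq_iff_eq_mul.1 hsq.symm)
  have hgR : g ∉ φ.range := by
    rintro ⟨m, rfl⟩
    exact hgD' (mem_map_of_mem φ (mem_centralizer_singleton_iff.2 (h.inj (by rw [map_mul, map_mul]; exact hgb))))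
  set W := D ⊔ zpowers g
  have hWT : W ≤ T' := sup_le hDT (zpowers_le.2 hgT)
  have hWc : W ≤ cU φ := sup_le ((map_le_range φ _).trans h.range_le_cU) (zpowers_le.2 hgz)
  obtain ⟨c, hc, hcW⟩ := h.into_range (hTp.to_le hWT) hWc h.range_le_cU
  have hbW : b ∈ W := mem_sup_left (mem_map_of_mem φ (mem_centralizer_singleton_iff.2 rfl))
  obtain ⟨m, hm⟩ := hcW b hbW
  have hW64 : 64 < Nat.card W := by
    by_contra hle
    push Not at hle
    rw [← hDc] at hle
    exact hgD' ((eq_of_le_of_card_ge (le_sup_left : D ≤ W) hle).symm ▸ mem_sup_right (mem_zpowers g) :)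
  have hWb : ∀ w ∈ W, w * b = b * w := fun w hw => by
    obtain ⟨x, -, rfl⟩ := hWT hw
    exact mem_centralizer_singleton_iff.1 x.2
  have hsub : W.map (MulAut.conj c).toMonoidHom ≤ (centralizer ({m} : Set Mdl)).map φ := by
    rintro _ ⟨w, hw, rfl⟩
    obtain ⟨n, hn⟩ := hcW w hw
    refine ⟨n, mem_centralizer_singleton_iff.2 (h.inj ?_), hn⟩
    rw [map_mul, map_mul, hn, hm, show c * w * c⁻¹ * (c * b * c⁻¹) = c * (w * b) * c⁻¹ by group, hWb w hw]
    group
  have hm64 : 64 < Nat.card (centralizer ({m} : Set Mdl)) := by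
    have h1 := card_le_of_le hsub
    rw [card_map_of_injective (MulAut.conj c).injective, h.card_map_eq] at h1
    omega
  have hb1 : bR k * bR k = 1 := (bR_facts k).2.2.1
  have hm2 : m * m = 1 := h.inj (by
    rw [map_mul, hm, map_one, show c * b * c⁻¹ * (c * b * c⁻¹) = c * (b * b) * c⁻¹ by group, ← map_mul, hb1,
      map_one, mul_one, mul_inv_cancel])
  rcases invol_class m hm2 with rfl | rfl | ⟨i, w, rfl⟩
  · exfalso
    rw [map_one] at hm
    exact (bR_facts k).2.2.2.1 (h.inj (by rw [map_one]; exact conj_eq_one_iff.1 hm.symm))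
  · exfalso
    have h1 : c * zU φ * c⁻¹ = zU φ := by
      rw [mem_centralizer_singleton_iff.1 hc, mul_inv_cancel_right]
    have h2 : b = zU φ := mul_left_cancel (mul_right_cancel (hm.symm.trans h1.symm))
    exact (bR_facts k).2.1 (h.inj h2 ▸ sgM_eP 0)
  have hcls := rep_cases i
  rcases hcls with ⟨l, e⟩ | ⟨l, e⟩ | ⟨e1, e2⟩
  · refine ⟨l, (φ (conjW w))⁻¹ * c, mul_mem (inv_mem (h.range_le_cU ⟨_, rfl⟩)) hc, ?_⟩
    rw [← e, show (φ (conjW w))⁻¹ * c * b * ((φ (conjW w))⁻¹ * c)⁻¹ =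
      (φ (conjW w))⁻¹ * (c * b * c⁻¹) * φ (conjW w) by group, ← hm]
    simp only [← map_inv, ← map_mul]
    congr 1
    group
  · exfalso
    rw [e, conj_cent_card, card_cent_bR] at hm64
    omega
  · exfalso
    set m' := conjW w * iRep i * (conjW w)⁻¹
    have hE' : eP m' := eP_normal _ e1 _
    have hQ' : ¬ qP m' := fun hh => e2 ((qP_conj_iff _).1 hh)
    have himg : ∀ (d : Mdl), d * bR k = bR k * d → d * d = 1 → ∃ n, φ n = c * φ d * c⁻¹ ∧ eP n := by
      intro d hd hd2
      have hdW : φ d ∈ W := mem_sup_left (mem_map_of_mem φ (mem_centralizer_singleton_iff.2 hd))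
      obtain ⟨n, hn, hne'⟩ := hsub ⟨φ d, hdW, rfl⟩
      refine ⟨n, hne', rP_invol n (cent_outside hE' hQ' (mem_centralizer_singleton_iff.1 hn)) (h.inj ?_)⟩
      rw [map_mul, map_one, hne', ← map_mul, ← map_mul, hd2, map_one, map_one]
    obtain ⟨n₁, hn1, he1⟩ := himg _ hc1 hc1s
    obtain ⟨n₂, hn2, he2⟩ := himg _ hc2 hc2s
    refine hne (h.inj ((MulAut.conj c).injective ?_))
    rw [map_mul, map_mul, map_mul, map_mul]
    show c * φ _ * c⁻¹ * (c * φ _ * c⁻¹) = c * φ _ * c⁻¹ * (c * φ _ * c⁻¹)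
    rw [← hn1, ← hn2, ← map_mul, ← map_mul, eP_comm _ he1 _ he2]

end Frame

end Cfsg.Lib.UFiveType
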