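import Cfsg.Agent.UFiveType.Fused
import Cfsg.Agent.Goldschmidt.Final
import Cfsg.Agent.InvolCalc.StronglyEmbedded

/-!
# The fusion of the involutions
-/

set_option autoImplicit false
set_option linter.style.haveILetI false
set_option linter.unusedSectionVars false
set_option synthInstance.maxSize 1024
set_option maxRecDepth 100000

namespace Cfsg.Lib.UFiveType

open Subgroup Cfsg.Lib.InvolCalc

universe u

variable {G : Type u} [Group G] [Finite G] {φ : Mdl →* G}

theorem pair_not_five : ∀ k : Fin 3, ∀ i : Fin 5, aR k ≠ sgM i := by decide +kernel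

theorem zpair_not_five : ∀ i j : Fin 5, j ≠ 0 → sgM 0 * sgM j ≠ sgM i := by decide +kernel

namespace Frame

variable (h : Frame φ)
include h

/-- An element of `E` conjugate to the central involution is one of the five. -/
theorem five_of_conj_mem {m : Mdl} (hm : eP m) (hc : IsConj (zU φ) (φ m)) : ∃ i, m = sgM i := by
  obtain ⟨g, hg⟩ := isConj_iff.1 hc
  obtain ⟨n, hn, hne⟩ := h.control (T := {zU φ}) (Set.singleton_subset_iff.2 (h.sgU_mem 0))
    (g := g) (fun x hx => by rw [Set.mem_singleton_iff.1 hx, hg]; exact mem_map_of_mem φ hm)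
  obtain ⟨j, hj⟩ := h.conj_five hn 0
  refine ⟨j, h.inj ?_⟩
  rw [← hg, ← hne _ rfl]
  exact hj

theorem bR_big_of_conj (k : Fin 3) {x : G} (hx : x ∈ eU φ) (hc : IsConj x (φ (bR k))) :
    ∃ l, ∃ c ∈ cU φ, c * φ (bR k) * c⁻¹ = φ (aR l) := by
  obtain ⟨g, hg⟩ := isConj_iff.1 hc
  refine h.fused_of_big k (U := (rU φ).map (MulAut.conj g).toMonoidHom)
    ((h.isPGroup.to_le (map_le_range φ rM)).map _) ?_ ?_
  · rintro _ ⟨r, hr, rfl⟩
    rw [mem_centralizer_singleton_iff, ← hg]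
    show g * r * g⁻¹ * (g * x * g⁻¹) = g * x * g⁻¹ * (g * r * g⁻¹)
    rw [show g * r * g⁻¹ * (g * x * g⁻¹) = g * (r * x) * g⁻¹ by group,
      ← mem_centralizer_iff.1 (h.rU_le hr) x hx]
    group
  · rw [card_map_of_injective (MulAut.conj g).injective, rU, h.card_map_eq, card_rM]
    norm_num

theorem aR_not_conj (k : Fin 3) : ¬ IsConj (zU φ) (φ (aR k)) := fun hc => by
  obtain ⟨i, hi⟩ := h.five_of_conj_mem (aR_facts k).2.1 hc
  exact pair_not_five k i hi

theorem bR_not_conj (k : Fin 3) : ¬ IsConj (zU φ) (φ (bR k)) := fun hc => by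
  obtain ⟨l, c, -, hl⟩ := h.bR_big_of_conj k (h.sgU_mem 0) hc
  exact h.aR_not_conj l (hc.trans (isConj_iff.2 ⟨c, hl⟩))

/-- Elements of the Sylow subgroup conjugate to the central involution. -/
theorem five_only {m : Mdl} (hc : IsConj (zU φ) (φ m)) : ∃ i, m = sgM i := by
  have hm2 : m * m = 1 := by
    obtain ⟨g, hg⟩ := isConj_iff.1 hc
    refine h.inj ?_
    rw [map_mul, ← hg, map_one, show g * zU φ * g⁻¹ * (g * zU φ * g⁻¹) = g * (zU φ * zU φ) * g⁻¹ by group,
      show zU φ * zU φ = 1 from h.eU_sq (h.sgU_mem 0), mul_one, mul_inv_cancel]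
  rcases invol_class m hm2 with rfl | rfl | ⟨i, w, rfl⟩
  · exfalso
    rw [map_one, isConj_one_left] at hc
    exact (sgM_qP 0).2.2 (h.inj (hc.trans φ.map_one.symm))
  · exact ⟨0, rfl⟩
  have hcls := rep_cases_two i
  rcases hcls with ⟨l, e⟩ | e
  · exfalso
    refine h.bR_not_conj l (hc.trans (isConj_iff.2 ⟨(φ (conjW w))⁻¹, ?_⟩))
    rw [e, inv_inv, ← map_inv, ← map_mul, ← map_mul]
    congr 1
    group
  · exact h.five_of_conj_mem (eP_normal _ e _) hc

variable [IsSimpleGroup G]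

theorem exists_fused : ∃ k l, ∃ c ∈ cU φ, c * φ (bR k) * c⁻¹ = φ (aR l) := by
  by_contra hno
  obtain ⟨S, hS⟩ := h.sylow
  have hsc : Cfsg.IsStronglyClosed (eU φ) (S : Subgroup G) := by
    refine ⟨hS ▸ map_le_range φ eM, fun x hx g hg => ?_⟩
    rw [hS] at hg
    obtain ⟨m, hm⟩ := hg
    by_contra hne
    have hm2 : m * m = 1 := h.inj (by
      rw [map_mul, hm, map_one, show g * x * g⁻¹ * (g * x * g⁻¹) = g * (x * x) * g⁻¹ by group, h.eU_sq hx,
        mul_one, mul_inv_cancel])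
    have hmE : ¬ eP m := fun e => hne (hm ▸ mem_map_of_mem φ e)
    rcases invol_class m hm2 with rfl | rfl | ⟨i, w, rfl⟩
    · exact hmE eP_one
    · exact hmE (sgM_eP 0)
    have hcls := rep_cases_two i
    rcases hcls with ⟨l, e⟩ | e
    · rw [e] at hm
      have hc : IsConj x (φ (bR l)) := (isConj_iff.2 ⟨g, hm.symm⟩).trans (isConj_iff.2 ⟨(φ (conjW w))⁻¹, by
        rw [inv_inv, ← map_inv, ← map_mul, ← map_mul]; congr 1; group⟩)
      exact hno ⟨l, h.bR_big_of_conj l hx hc⟩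
    · exact hmE (eP_normal _ e _)
  have hne : eU φ ≠ ⊥ := fun e => by
    have := h.card_eU
    rw [e, card_bot] at this
    omega
  rcases Cfsg.Lib.Goldschmidt.goldProp G S (eU φ) hne
      ⟨⟨fun a b => Subtype.ext (h.eU_comm a.2 b.2)⟩⟩ hsc with hab | ⟨H, hH⟩
  · have h1 := hab.is_comm.comm ⟨φ (bR 0), hS.symm ▸ ⟨_, rfl⟩⟩ ⟨φ (aR 1), hS.symm ▸ ⟨_, rfl⟩⟩
    exact bR_noncomm (h.inj (by rw [map_mul, map_mul]; exact congrArg Subtype.val h1))
  · exact h.aR_not_conj 0 (StrongEmb.all_conj hH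
      (h.order_two sgM_zero_mul_self (sgM_qP 0).2.2) (h.order_two (eP_sq _ (aR_facts 0).2.1) (aR_facts 0).2.2.1))

theorem exists_five_conj : ∃ i : Fin 5, i ≠ 0 ∧ IsConj (zU φ) (sgU φ i) := by
  haveI : Fact (Nat.Prime 2) := ⟨Nat.prime_two⟩
  by_contra hno
  push Not at hno
  have hz2 : orderOf (zU φ) = 2 := h.order_two sgM_zero_mul_self (sgM_qP 0).2.2
  have hiso : Cfsg.IsIsolatedInvolution (zU φ) := by
    refine ⟨hz2, fun g hcm => ?_⟩
    set y := g * zU φ * g⁻¹
    set V := closure ({zU φ, y} : Set G)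
    have hcomm : ∀ a ∈ ({zU φ, y} : Set G), ∀ b ∈ ({zU φ, y} : Set G), a * b = b * a := by
      rintro a (rfl | rfl) b (rfl | rfl)
      exacts [rfl, hcm.eq, hcm.eq.symm, rfl]
    have hy : y * y = 1 := by
      rw [show y * y = g * (zU φ * zU φ) * g⁻¹ by simp only [y]; group,
        show zU φ * zU φ = 1 from h.eU_sq (h.sgU_mem 0), mul_one, mul_inv_cancel]
    have hz : zU φ * zU φ = 1 := h.eU_sq (h.sgU_mem 0)
    haveI : IsMulCommutative V := isMulCommutative_closure hcomm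
    have hV : IsPGroup 2 V := by
      rintro ⟨v, hv⟩
      refine ⟨1, Subtype.ext ?_⟩
      show v ^ 2 = 1
      induction hv using closure_induction with
      | mem x hx => rcases hx with rfl | rfl <;> rw [pow_two] <;> assumption
      | one => exact one_pow _
      | mul a b ha hb iha ihb =>
        have hab : Commute a b := congrArg Subtype.val (IsMulCommutative.is_comm.comm (⟨a, ha⟩ : V) ⟨b, hb⟩)
        rw [hab.mul_pow, iha, ihb, one_mul]
      | inv a _ iha => rw [inv_pow, iha, inv_one]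
    obtain ⟨c, -, hc⟩ := h.into_range (H := ⊤) hV le_top le_top
    obtain ⟨m, hm⟩ := hc _ (subset_closure (Set.mem_insert _ _))
    obtain ⟨n, hn⟩ := hc y (subset_closure (Set.mem_insert_of_mem _ rfl))
    have hall : ∀ x : Mdl, IsConj (zU φ) (φ x) → φ x = zU φ := by
      intro x hx
      obtain ⟨i, rfl⟩ := h.five_only hx
      by_cases hi : i = 0
      · rw [hi]; rfl
      · exact absurd hx (hno i hi)
    have e1 := hall m (isConj_iff.2 ⟨c, hm.symm⟩)
    have e2 := hall n (isConj_iff.2 ⟨c * g, by rw [hn]; simp only [y]; group⟩)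
    rw [hm] at e1; rw [hn, ← e1] at e2
    exact mul_left_cancel (mul_right_cancel e2)
  have hO : Cfsg.pPrimeCore 2 G = ⊥ := by
    refine (IsSimpleGroup.eq_bot_or_eq_top_of_normal _ inferInstance).resolve_right fun e => ?_
    have h1 := ZStarApps.odd_card_pPrimeCore (G := G)
    rw [e, card_top] at h1
    exact Nat.not_even_iff_odd.2 h1 (even_iff_two_dvd.2 (hz2 ▸ orderOf_dvd_natCard _))
  have hcen : zU φ ∈ center G := mem_center_iff.2 fun g => by
    have := ZStarApps.zstarProp hiso g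
    rw [hO, mem_bot, mul_inv_eq_one, mul_inv_eq_iff_eq_mul] at this
    exact this.symm
  have hz1 : zU φ ≠ 1 := fun e => by rw [e, orderOf_one] at hz2; omega
  rcases IsSimpleGroup.eq_bot_or_eq_top_of_normal (center G) inferInstance with e | e
  · exact hz1 (mem_bot.1 (e ▸ hcen))
  · have h1 : φ (bR 0) * φ (aR 1) = φ (aR 1) * φ (bR 0) :=
      mem_center_iff.1 (e ▸ mem_top (φ (aR 1)) : φ (aR 1) ∈ center G) _
    exact bR_noncomm (h.inj (by rw [map_mul, map_mul]; exact h1))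

theorem five_onto (σ : Equiv.Perm (Fin 5)) (hσ : Equiv.Perm.sign σ = 1) :
    ∃ g ∈ normalizer (eU φ : Set G), ∀ i, g * sgU φ i * g⁻¹ = sgU φ (σ i) := by
  have hd : ∀ k, dperm k ∈ h.permHom.range := fun k => by
    obtain ⟨x, -, hx⟩ := h.v4_real k
    exact ⟨x, hx⟩
  obtain ⟨i, hi, hc⟩ := h.exists_five_conj
  obtain ⟨g, hg⟩ := isConj_iff.1 hc
  obtain ⟨n, hn, hne⟩ := h.control (T := {zU φ}) (Set.singleton_subset_iff.2 (h.sgU_mem 0))
    (g := g) (fun x hx => by rw [Set.mem_singleton_iff.1 hx, hg]; exact h.sgU_mem i)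
  have hn0 : h.permHom ⟨n, hn⟩ 0 = i :=
    sgU_inj h ((h.perm_spec ⟨n, hn⟩ 0).symm.trans ((hne _ rfl).trans hg))
  have htr : ∀ i j : Fin 5, i ≠ 0 → j ≠ 0 → i = j ∨ ∃ k, dperm k i = j := by decide +kernel
  have ht : ∀ j, ∃ σ ∈ h.permHom.range, σ 0 = j := fun j => by
    rcases eq_or_ne j 0 with rfl | hj
    · exact ⟨1, one_mem _, rfl⟩
    rcases htr i j hi hj with rfl | ⟨k, hk⟩
    · exact ⟨_, ⟨⟨n, hn⟩, rfl⟩, hn0⟩
    · exact ⟨dperm k * h.permHom ⟨n, hn⟩, mul_mem (hd k) ⟨_, rfl⟩, by rw [Equiv.Perm.mul_apply, hn0, hk]⟩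
  have hA := onto_of_transitive h.permHom.range
    (by rintro _ ⟨x, rfl⟩; exact Equiv.Perm.mem_alternatingGroup.2 (h.sign_eq_one x)) hd ht
  obtain ⟨x, hx⟩ : σ ∈ h.permHom.range := hA ▸ Equiv.Perm.mem_alternatingGroup.2 hσ
  exact ⟨x, x.2, fun i => (h.perm_spec x i).trans (by rw [← hx]; rfl)⟩

theorem five_conj (i : Fin 5) : IsConj (zU φ) (sgU φ i) := by
  have key : ∀ i : Fin 5, ∃ σ : Equiv.Perm (Fin 5), Equiv.Perm.sign σ = 1 ∧ σ 0 = i := by decide +kernel
  obtain ⟨σ, hσ, rfl⟩ := key i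
  obtain ⟨g, -, hg⟩ := h.five_onto σ hσ
  exact isConj_iff.2 ⟨g, hg 0⟩

end Frame

end Cfsg.Lib.UFiveType
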