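import Cfsg.Agent.PrimeGraph.FieldFour
import Mathlib.LinearAlgebra.Matrix.Block
import Mathlib.Tactic.FinCases
import Mathlib.Tactic.Ring

/-!
# The Sylow 2-subgroup of PSU(5,2) on bits

An element is a code below 1024: bit 0 is the centre, bits 1 to 6 a vector of the three dimensional space over the
field of four elements, bits 7 to 9 an element of the quaternion group of unipotent matrices in GU(3,2).
The product is checked against the unitriangular matrices.
-/

set_option autoImplicit false
set_option maxRecDepth 100000
set_option Elab.async false

namespace Cfsg.Lib.UFiveType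

open Matrix

/-- The field with four elements. -/
abbrev K4 : Type := Cfsg.Lib.PrimeGraph.KQuad

/-- The action of the quaternion group on the vectors, six bits an entry. -/
def actT : ℕ := 4796694057927037921375818625566525006665107828411822889420861661117355621732193872242279182108326953277726747561347486503041507864999925082856437402065410829948744717701358676363390202808262493310315136988582971691173467945423461244589520134430975984803980639365691891971004443204661752877810455509954070396317713043525415949469634023100684776618525263664927508724510795344398031334649208659036708757934636095992329381373943046236305449387180729331139029266566569826054687672381645858762813700072170255683842538451287232724397838242069454473033629460425814220203049454218338297705545430877554970140239783800382342600640774785762987739363157372692682583565211963687569856468889158429741124165361519903906028700654869624077730667373775099487490270690532757443398044011241358494038215420667842107380362433415086709204094211710526725865044438987876820253205953003411670440322086039774881597428195399249122681567689500066023481408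

/-- The product in the quaternion group, three bits an entry. -/
def tmT : ℕ := 825389160559192874655519958041341871327275336984755357320

/-- The bilinear form on the vectors, one bit an entry. -/
def beT : ℕ := 833072843005805083045528979202206796614087833554892555017584191151918387951168218872138575062806163742415095325897173136987105891490953502096591009487751869425924249911520514156383099322646005810822520149809123423498098033178448218767960813067816396799810113343376697509357472116574595981867739627726138416981883775328925625180810421975607635544668528712334879184495907730524262060709585342362256609638446651089882903883919721692209160216827326771479864001315026149492763233143705962054971899325690544720055032508985669674991086014972496812669661678466571740208195111792968863928403522570150942617994728373756044242546873975550538949594523187842112072461200987681425431620409890551030083569951985754465214849088155767306206101877475641679070061237643349030587030128977260417165262432676731199665477471885162258346577884594327847323722298761298247416260805714239319600573347497366532823050460106555509962275606332464895606621261756889961509050020311766999252768390363174440096028113478392380602379520102702976648104817549030456552753446825438491071819002310918938267092575797661101971718978850803267757624152369332120956795405118252202165394552407238300579920988553567266615535291956740998876491205537594008153137432672722112340819968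

/-- A field of a packed table. -/
def fldU (w T i : ℕ) : ℕ := (T >>> (w * i)) % 2 ^ w

/-- The image of a vector. -/
def act (t v : ℕ) : ℕ := fldU 6 actT (64 * t + v)

/-- The product in the quaternion group. -/
def tm (t u : ℕ) : ℕ := fldU 3 tmT (8 * t + u)

/-- The bilinear form. -/
def be (v w : ℕ) : ℕ := fldU 1 beT (64 * v + w)

/-- The product of codes. -/
def mulN (n k : ℕ) : ℕ :=
  tm (n / 128) (k / 128) * 128 + (n / 2 % 64 ^^^ act (n / 128) (k / 2 % 64)) * 2 +
    (n % 2 + k % 2 + be (n / 2 % 64) (act (n / 128) (k / 2 % 64))) % 2

/-- The group of the codes. -/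
structure Mdl where
  code : Fin 1024
deriving DecidableEq

instance : Fintype Mdl := Fintype.ofEquiv _ (⟨Mdl.mk, Mdl.code, fun _ => rfl, fun _ => rfl⟩ : Fin 1024 ≃ Mdl)

/-- An element by its number. -/
def ofN (n : ℕ) : Mdl := ⟨⟨n % 1024, Nat.mod_lt _ (by norm_num)⟩⟩

instance : One Mdl := ⟨ofN 0⟩
instance : Mul Mdl := ⟨fun a b => ofN (mulN a.code.val b.code.val)⟩

theorem forall_mdl {P : Mdl → Prop} : (∀ a, P a) ↔ ∀ i : Fin 1024, P ⟨i⟩ :=
  ⟨fun h i => h _, fun h a => h a.code⟩

/-- Conjugation in the field. -/
def cj (a : K4) : K4 := a * a

/-- The element outside the prime field. -/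
def om : K4 := Cfsg.Lib.PrimeGraph.KQuad.ofCode 2

/-- A coordinate of a vector. -/
def vk (v i : ℕ) : K4 := Cfsg.Lib.PrimeGraph.KQuad.ofCode (v >>> (2 * i))

/-- The hermitian form on the vectors. -/
def hv (v w : ℕ) : K4 := cj (vk v 0) * vk w 2 + cj (vk v 1) * vk w 1 + cj (vk v 2) * vk w 0

/-- The corner of the matrix. -/
def zeta (s v : ℕ) : K4 := Cfsg.Lib.PrimeGraph.KQuad.ofCode (s % 2) + hv v v * om

/-- The middle entry of a quaternion. -/
def alp (t : ℕ) : K4 := Cfsg.Lib.PrimeGraph.KQuad.ofCode (t >>> 1)

/-- The corner of a quaternion. -/
def eta (t : ℕ) : K4 := Cfsg.Lib.PrimeGraph.KQuad.ofCode (t % 2) + alp t * cj (alp t) * om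

/-- The top row over a vector and a quaternion. -/
def row0 (t v : ℕ) : K4 := cj (vk v 2)

/-- The second entry of the top row. -/
def row1 (t v : ℕ) : K4 := cj (vk v 2) * cj (alp t) + cj (vk v 1)

/-- The third entry of the top row. -/
def row2 (t v : ℕ) : K4 := cj (vk v 2) * eta t + cj (vk v 1) * alp t + cj (vk v 0)

/-- The matrix from the parts. -/
def matP (t v s : ℕ) : Matrix (Fin 5) (Fin 5) K4 :=
  !![1, row0 t v, row1 t v, row2 t v, zeta s v;
    0, 1, cj (alp t), eta t, vk v 0;
    0, 0, 1, alp t, vk v 1;
    0, 0, 0, 1, vk v 2;
    0, 0, 0, 0, 1]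

theorem vk_xor : ∀ v w : Fin 64, ∀ i : Fin 3, vk (v.val ^^^ w.val) i.val = vk v.val i.val + vk w.val i.val := by
  decide +kernel

theorem act_lt : ∀ t : Fin 8, ∀ v : Fin 64, act t.val v.val < 64 := by decide +kernel

theorem act_zero : ∀ t : Fin 8, ∀ v : Fin 64,
    vk (act t.val v.val) 0 = vk v.val 0 + cj (alp t.val) * vk v.val 1 + eta t.val * vk v.val 2 := by decide +kernel

theorem act_one : ∀ t : Fin 8, ∀ v : Fin 64,
    vk (act t.val v.val) 1 = vk v.val 1 + alp t.val * vk v.val 2 := by decide +kernel

theorem act_two : ∀ t : Fin 8, ∀ v : Fin 64, vk (act t.val v.val) 2 = vk v.val 2 := by decide +kernel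

theorem zeta_act : ∀ t : Fin 8, ∀ v : Fin 64, ∀ s : Fin 2, zeta s.val (act t.val v.val) = zeta s.val v.val := by
  decide +kernel

theorem zeta_xor : ∀ v w : Fin 64, ∀ s r : Fin 2,
    zeta ((s.val + r.val + be v.val w.val) % 2) (v.val ^^^ w.val) =
      zeta s.val v.val + zeta r.val w.val + hv v.val w.val := by
  decide +kernel

theorem tm_facts : ∀ t u : Fin 8, tm t.val u.val < 8 ∧ alp (tm t.val u.val) = alp t.val + alp u.val ∧
    eta (tm t.val u.val) = eta t.val + eta u.val + cj (alp t.val) * alp u.val := by
  decide +kernel

theorem row_act : ∀ t : Fin 8, ∀ v : Fin 64,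
    row0 t.val (act t.val v.val) = cj (vk v.val 2) ∧ row1 t.val (act t.val v.val) = cj (vk v.val 1) ∧
      row2 t.val (act t.val v.val) = cj (vk v.val 0) := by
  decide +kernel

theorem cj_add (a b : K4) : cj (a + b) = cj a + cj b := by
  have h : a * b + a * b = 0 := CharTwo.add_self_eq_zero _
  simp only [cj]
  linear_combination h

theorem cj_mul (a b : K4) : cj (a * b) = cj a * cj b := by
  simp only [cj]; ring

theorem matP_mul (t u : Fin 8) (v w : Fin 64) (s r : Fin 2) :
    matP t.val v.val s.val * matP u.val w.val r.val =
      matP (tm t.val u.val) (v.val ^^^ act t.val w.val) ((s.val + r.val + be v.val (act t.val w.val)) % 2) := by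
  obtain ⟨-, hal, het⟩ := tm_facts t u
  obtain ⟨r0, r1, r2⟩ := row_act t w
  have hx := vk_xor v ⟨_, act_lt t w⟩
  have x0 := hx 0; have x1 := hx 1; have x2 := hx 2
  have hz := zeta_xor v ⟨_, act_lt t w⟩ s r
  have za := zeta_act t w r
  simp only [Fin.val_zero, Fin.val_one, Fin.val_two, row0, row1, row2] at x0 x1 x2 hz r0 r1 r2
  have a0 := act_zero t w; have a1 := act_one t w; have a2 := act_two t w
  simp only [hv, za, a0, a1, a2] at hz
  rw [a0] at x0; rw [a1] at x1; rw [a2] at x2
  rw [a2, a1] at r1; rw [a2, a1, a0] at r2
  have h2 : (2 : K4) = 0 := CharTwo.two_eq_zero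
  simp only [cj_add, cj_mul] at r1 r2 hz
  ext i j
  fin_cases i <;> fin_cases j <;>
    simp [matP, Matrix.mul_apply, Fin.sum_univ_five, row0, row1, row2, hal, het, x0, x1, x2, hz, cj_add, cj_mul] <;>
    grind

/-- The matrix of an element. -/
def matM (a : Mdl) : Matrix (Fin 5) (Fin 5) K4 :=
  matP (a.code.val / 128) (a.code.val / 2 % 64) (a.code.val % 2)

theorem code_mul (a b : Mdl) : (a * b).code.val = mulN a.code.val b.code.val % 1024 := rfl

theorem be_lt (v w : ℕ) : be v w < 2 := Nat.mod_lt _ (by norm_num)

theorem matM_mul (a b : Mdl) : matM (a * b) = matM a * matM b := by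
  set t : Fin 8 := ⟨a.code.val / 128, by omega⟩
  set u : Fin 8 := ⟨b.code.val / 128, by omega⟩
  set v : Fin 64 := ⟨a.code.val / 2 % 64, Nat.mod_lt _ (by norm_num)⟩
  set w : Fin 64 := ⟨b.code.val / 2 % 64, Nat.mod_lt _ (by norm_num)⟩
  set s : Fin 2 := ⟨a.code.val % 2, Nat.mod_lt _ (by norm_num)⟩
  set r : Fin 2 := ⟨b.code.val % 2, Nat.mod_lt _ (by norm_num)⟩
  have h := matP_mul t u v w s r
  refine Eq.trans ?_ h.symm
  have hT := (tm_facts t u).1
  have hx : v.val ^^^ act t.val w.val < 64 := Nat.xor_lt_two_pow (n := 6) v.isLt (act_lt t w)
  set T := tm t.val u.val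
  set X := v.val ^^^ act t.val w.val
  set B := (s.val + r.val + be v.val (act t.val w.val)) % 2
  have hB : B < 2 := Nat.mod_lt _ (by norm_num)
  have hc : (a * b).code.val = T * 128 + X * 2 + B := by
    rw [code_mul]
    show (T * 128 + X * 2 + B) % 1024 = _
    omega
  rw [matM, hc, show (T * 128 + X * 2 + B) / 128 = T by omega, show (T * 128 + X * 2 + B) / 2 % 64 = X by omega,
    show (T * 128 + X * 2 + B) % 2 = B by omega]

/-- The code read off the matrix. -/
def readM (A : Matrix (Fin 5) (Fin 5) K4) : ℕ :=
  128 * ((A 1 3).code.val % 2 + 2 * (A 2 3).code.val) +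
    2 * ((A 1 4).code.val + 4 * (A 2 4).code.val + 16 * (A 3 4).code.val) + (A 0 4).code.val % 2

theorem readM_matM : ∀ a : Mdl, readM (matM a) = a.code.val := by
  rw [forall_mdl]
  decide +kernel

theorem matM_injective : Function.Injective matM := fun a b h => by
  have e : a.code.val = b.code.val := by rw [← readM_matM a, ← readM_matM b, h]
  cases a; cases b
  exact congrArg _ (Fin.ext e)

/-- The inverse of a code: the seventh power. -/
def invM (a : Mdl) : Mdl := a * (a * a) * (a * a * (a * a))

instance : Inv Mdl := ⟨invM⟩

theorem one_mul_mdl : ∀ a : Mdl, (1 : Mdl) * a = a := by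
  rw [forall_mdl]
  decide +kernel

theorem inv_mul_mdl : ∀ a : Mdl, a⁻¹ * a = 1 := by
  rw [forall_mdl]
  decide +kernel

instance : Group Mdl :=
  Group.ofLeftAxioms (fun a b c => matM_injective (by simp only [matM_mul, mul_assoc])) one_mul_mdl inv_mul_mdl

theorem card_mdl : Nat.card Mdl = 1024 := by
  rw [Nat.card_congr (⟨Mdl.code, Mdl.mk, fun _ => rfl, fun _ => rfl⟩ : Mdl ≃ Fin 1024), Nat.card_fin]

theorem matM_one : matM 1 = 1 := by decide +kernel

end Cfsg.Lib.UFiveType
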