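import Cfsg.Agent.UFiveType.Embed
import Cfsg.Agent.UFiveType.Facts
import Mathlib.GroupTheory.Perm.Sign

/-!
# Groups with a Sylow 2-subgroup of the type of PSU(5,2): the configuration

`Final` is the interface between the local analysis and the identification.
-/

set_option autoImplicit false

namespace Cfsg.Lib.UFiveType

open Subgroup

universe u

variable {G : Type u} [Group G]

/-- An injection of the model onto a Sylow 2-subgroup. -/
structure Frame (φ : Mdl →* G) : Prop where
  inj : Function.Injective φ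
  sylow : ∃ S : Sylow 2 G, (S : Subgroup G) = φ.range

/-- The extraspecial subgroup of order 128 of the model. -/
def qM : Subgroup Mdl where
  carrier := {a | qP a}
  mul_mem' := fun {a b} ha hb => qP_mul a ha b hb
  one_mem' := qP_one
  inv_mem' := fun {a} ha => qP_inv a ha

/-- The elementary abelian subgroup of order 16 of the model. -/
def eM : Subgroup Mdl where
  carrier := {a | eP a}
  mul_mem' := fun {a b} ha hb => eP_mul a ha b hb
  one_mem' := eP_one
  inv_mem' := fun {a} ha => eP_inv a ha

@[simp] theorem mem_qM {a : Mdl} : a ∈ qM ↔ qP a := Iff.rfl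

@[simp] theorem mem_eM {a : Mdl} : a ∈ eM ↔ eP a := Iff.rfl

variable (φ : Mdl →* G)

/-- The central involution of the Sylow subgroup. -/
def zU : G := φ (sgM 0)

/-- The five. -/
def sgU (i : Fin 5) : G := φ (sgM i)

/-- A representative of the other class. -/
def aU : G := φ (aR 0)

/-- The centraliser of the central involution. -/
def cU : Subgroup G := centralizer ({zU φ} : Set G)

/-- The extraspecial subgroup in the group. -/
def qU : Subgroup G := qM.map φ

/-- The elementary abelian subgroup in the group. -/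
def eU : Subgroup G := eM.map φ

/-- The configuration at the end of the local analysis: two classes of involutions and no cores. -/
structure Final (φ : Mdl →* G) : Prop where
  frame : Frame φ
  classes : ∀ x : G, orderOf x = 2 → IsConj (zU φ) x ∨ IsConj (aU φ) x
  not_conj : ¬ IsConj (zU φ) (aU φ)
  five_conj : ∀ i, IsConj (zU φ) (sgU φ i)
  five_only : ∀ m : Mdl, IsConj (zU φ) (φ m) → ∃ i, m = sgM i
  aR_conj : ∀ k, ∃ c ∈ cU φ, c * aU φ * c⁻¹ = φ (aR k)
  bR_conj : ∀ k, ∃ c ∈ cU φ, c * aU φ * c⁻¹ = φ (bR k)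
  five_act : ∀ g ∈ normalizer (eU φ : Set G), ∃ σ : Equiv.Perm (Fin 5),
    Equiv.Perm.sign σ = 1 ∧ ∀ i, g * sgU φ i * g⁻¹ = sgU φ (σ i)
  five_onto : ∀ σ : Equiv.Perm (Fin 5), Equiv.Perm.sign σ = 1 →
    ∃ g ∈ normalizer (eU φ : Set G), ∀ i, g * sgU φ i * g⁻¹ = sgU φ (σ i)
  q_normal : cU φ ≤ normalizer (qU φ : Set G)
  cent_five : cU φ ⊓ centralizer ({sgU φ 1} : Set G) ≤ normalizer (eU φ : Set G)
  cent_aR : ∀ k, centralizer ({φ (aR k)} : Set G) ≤ normalizer (eU φ : Set G)

/-- The hypothesis of the statement gives a frame. -/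
theorem exists_frame [Finite G] {F : Type*} [Field F] [Fintype F] (hF : Fintype.card F = 4) (S : Sylow 2 G)
    (P : Sylow 2 (Cfsg.PSU 5 F 2)) (e : (S : Subgroup G) ≃* (P : Subgroup (Cfsg.PSU 5 F 2))) :
    ∃ φ : Mdl →* G, Frame φ := by
  obtain ⟨f⟩ := sylow_equiv_model hF P
  set ψ := (e.trans f).symm
  refine ⟨(S : Subgroup G).subtype.comp ψ.toMonoidHom, (S : Subgroup G).subtype_injective.comp ψ.injective, S, ?_⟩
  rw [MonoidHom.range_comp, MonoidHom.range_eq_top.2 ψ.surjective, ← MonoidHom.range_eq_map, range_subtype]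

end Cfsg.Lib.UFiveType
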