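import Cfsg.Agent.UFiveType.Basic
import Cfsg.Agent.UFiveType.FactsSq
import Cfsg.Agent.UFiveType.FactsV

/-!
# In the centraliser of the central involution `Q` is strongly closed modulo the centre

The group `X` is the centraliser modulo its core.
-/

set_option autoImplicit false
set_option linter.style.haveILetI false
set_option linter.unusedSectionVars false
set_option synthInstance.maxSize 1024
set_option maxRecDepth 100000

namespace Cfsg.Lib.UFiveType

open Subgroup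

universe u

variable {X : Type u} [Group X] [Finite X]

/-- The centraliser of the central involution modulo its core. -/
structure ZSet (ψ : Mdl →* X) : Prop where
  frame : Frame ψ
  core : Cfsg.pPrimeCore 2 X = ⊥
  central : ψ (sgM 0) ∈ center X
  outside : ∀ m q : Mdl, ¬ qP m → qP q → m * m = 1 → q * q = 1 → ¬ IsConj (ψ q) (ψ m)
  aconj : ∀ k, IsConj (ψ (aR 0)) (ψ (aR k)) ∧ IsConj (ψ (aR 0)) (ψ (bR k))

theorem rep_qP : ∀ i : Fin 8, qP (iRep i) → (∃ l, iRep i = aR l) ∨ ∃ l, iRep i = bR l := by decide +kernel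

/-- The elements fixing `u` up to the centre. -/
def modCent (ψ : Mdl →* X) (hz : ψ (sgM 0) ∈ center X) (hz2 : ψ (sgM 0) * ψ (sgM 0) = 1) (u : X) : Subgroup X where
  carrier := {g | g * u = u * g ∨ g * u = ψ (sgM 0) * (u * g)}
  one_mem' := Or.inl (by simp)
  mul_mem' := by
    intro a b ha hb
    have hc : ∀ y, y * ψ (sgM 0) = ψ (sgM 0) * y := mem_center_iff.1 hz
    rcases ha with ha | ha <;> rcases hb with hb | hb
    · exact Or.inl (by rw [mul_assoc, hb, ← mul_assoc, ha, mul_assoc])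
    · exact Or.inr (by rw [mul_assoc, hb, ← mul_assoc, hc, mul_assoc, ← mul_assoc a, ha, mul_assoc u])
    · exact Or.inr (by rw [mul_assoc, hb, ← mul_assoc, ha, mul_assoc, mul_assoc])
    · refine Or.inl ?_
      rw [mul_assoc, hb, ← mul_assoc, hc, mul_assoc, ← mul_assoc a, ha, mul_assoc, mul_assoc u,
        ← mul_assoc (ψ (sgM 0)) (ψ (sgM 0)), hz2, one_mul]
  inv_mem' := by
    intro a ha
    have hc : ∀ y, y * ψ (sgM 0) = ψ (sgM 0) * y := mem_center_iff.1 hz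
    rcases ha with ha | ha
    · exact Or.inl (Commute.inv_left (show Commute a u from ha)).eq
    · refine Or.inr ?_
      have h1 : a * (ψ (sgM 0) * (u * a⁻¹)) = u := by
        calc a * (ψ (sgM 0) * (u * a⁻¹)) = (a * ψ (sgM 0)) * u * a⁻¹ := by group
          _ = ψ (sgM 0) * (a * u) * a⁻¹ := by rw [hc]; group
          _ = (ψ (sgM 0) * ψ (sgM 0)) * u := by rw [ha]; group
          _ = u := by rw [hz2, one_mul]
      conv_lhs => rw [← h1]
      group

theorem card_filter_hP (u : Mdl) (H : Subgroup Mdl) (h : ∀ a, a ∈ H ↔ hP u a) :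
    Nat.card H = (Finset.univ.filter fun g : Fin 1024 => hP u ⟨g⟩).card := card_filter_mdl (hP u) H h

namespace ZSet

variable {ψ : Mdl →* X} (h : ZSet ψ)
include h

theorem z_sq : ψ (sgM 0) * ψ (sgM 0) = 1 := by rw [← map_mul, eP_sq _ (sgM_eP 0), map_one]

theorem z_conj (g : X) : g * ψ (sgM 0) * g⁻¹ = ψ (sgM 0) := by
  rw [mem_center_iff.1 h.central g, mul_inv_cancel_right]

/-- The involutions of `Q` other than the centre are conjugate. -/
theorem sing_conj {q : Mdl} (hq : qP q) (hq2 : q * q = 1) (h1 : q ≠ 1) (hz : q ≠ sgM 0) :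
    IsConj (ψ (aR 0)) (ψ q) := by
  rcases invol_class q hq2 with e | e | ⟨i, w, rfl⟩
  · exact absurd e h1
  · exact absurd e hz
  have hw : IsConj (ψ (iRep i)) (ψ (conjW w * iRep i * (conjW w)⁻¹)) := isConj_iff.2 ⟨ψ (conjW w), by simp⟩
  rcases rep_qP i ((qP_conj_iff _).1 hq) with ⟨l, e⟩ | ⟨l, e⟩
  · exact (e ▸ (h.aconj l).1 : IsConj (ψ (aR 0)) (ψ (iRep i))).trans hw
  · exact (e ▸ (h.aconj l).2 : IsConj (ψ (aR 0)) (ψ (iRep i))).trans hw

/-- The subgroup of the model fixing `u` up to the centre. -/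
def hSub (u : Mdl) : Subgroup Mdl :=
  (modCent ψ h.central h.z_sq (ψ u)).comap ψ

theorem mem_hSub {u a : Mdl} : a ∈ h.hSub u ↔ hP u a := by
  show (ψ a * ψ u = ψ u * ψ a ∨ ψ a * ψ u = ψ (sgM 0) * (ψ u * ψ a)) ↔ _
  rw [← map_mul, ← map_mul, ← map_mul, h.frame.inj.eq_iff, h.frame.inj.eq_iff]
  rfl

/-- An element of order four outside `Q` is not conjugate into `Q`. -/
theorem outside_four {q m : Mdl} (hq : qP q) (hq2 : q * q = sgM 0) (hm2 : m * m = sgM 0) (hm : ¬ qP m) {g : X}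
    (hg : g * ψ q * g⁻¹ = ψ m) : False := by
  haveI : Fact (Nat.Prime 2) := ⟨Nat.prime_two⟩
  set N := modCent ψ h.central h.z_sq (ψ m) with hN
  set Hm := (h.hSub m).map ψ with hHm
  have hHmN : Hm ≤ N := by rintro _ ⟨a, ha, rfl⟩; exact ha
  obtain ⟨T, hT⟩ := ((h.frame.isPGroup.to_le (map_le_range ψ _) : IsPGroup 2 Hm).of_injective
    (subgroupOfEquivOfLe hHmN).toMonoidHom (subgroupOfEquivOfLe hHmN).injective).exists_le_sylow
  set T' := (T : Subgroup N).map N.subtype with hT'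
  have hHT : Hm ≤ T' := fun x hx => ⟨⟨x, hHmN hx⟩, hT hx, rfl⟩
  obtain ⟨d, -, hd⟩ := h.frame.into_range (H := ⊤) (T.isPGroup'.map N.subtype) le_top le_top
  have hmm : m ∈ h.hSub m := h.mem_hSub.2 (Or.inl rfl)
  obtain ⟨n, hn⟩ := hd (ψ m) (hHT (mem_map_of_mem ψ hmm))
  have hn2 : n * n = sgM 0 := h.frame.inj (by
    rw [map_mul, hn, show d * ψ m * d⁻¹ * (d * ψ m * d⁻¹) = d * (ψ m * ψ m) * d⁻¹ by group, ← map_mul, hm2,
      h.z_conj])
  have hinto : ∀ x ∈ T', ∃ a, a ∈ h.hSub n ∧ ψ a = d * x * d⁻¹ := by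
    intro x hx
    obtain ⟨a, ha⟩ := hd x hx
    refine ⟨a, ?_, ha⟩
    show ψ a * ψ n = ψ n * ψ a ∨ ψ a * ψ n = ψ (sgM 0) * (ψ n * ψ a)
    rw [ha, hn]
    obtain ⟨y, -, rfl⟩ := hx
    rcases y.2 with e | e
    · left
      rw [show d * N.subtype y * d⁻¹ * (d * ψ m * d⁻¹) = d * (N.subtype y * ψ m) * d⁻¹ by group,
        show N.subtype y * ψ m = ψ m * N.subtype y from e]
      group
    · right
      rw [show d * N.subtype y * d⁻¹ * (d * ψ m * d⁻¹) = d * (N.subtype y * ψ m) * d⁻¹ by group,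
        show N.subtype y * ψ m = ψ (sgM 0) * (ψ m * N.subtype y) from e, ← mul_assoc d,
        mem_center_iff.1 h.central d]
      group
  -- the two non-commuting involutions near `q`
  have hbq : ∀ b, qP b → b ∈ h.hSub q := fun b hb => h.mem_hSub.2 (qP_comm b hb q hq)
  set V := ((h.hSub q).map ψ).map (MulAut.conj g).toMonoidHom with hV
  have hVN : V ≤ N := by
    rintro _ ⟨_, ⟨a, ha, rfl⟩, rfl⟩
    show g * ψ a * g⁻¹ * ψ m = ψ m * (g * ψ a * g⁻¹) ∨
      g * ψ a * g⁻¹ * ψ m = ψ (sgM 0) * (ψ m * (g * ψ a * g⁻¹))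
    rcases ha with e | e
    · left
      rw [← hg, show g * ψ a * g⁻¹ * (g * ψ q * g⁻¹) = g * (ψ a * ψ q) * g⁻¹ by group, e]
      group
    · right
      rw [← hg, show g * ψ a * g⁻¹ * (g * ψ q * g⁻¹) = g * (ψ a * ψ q) * g⁻¹ by group, e, ← mul_assoc g,
        mem_center_iff.1 h.central g]
      group
  have hVp : IsPGroup 2 V := (h.frame.isPGroup.to_le (map_le_range ψ _)).map _
  obtain ⟨R, hR⟩ := (hVp.of_injective (subgroupOfEquivOfLe hVN).toMonoidHom
    (subgroupOfEquivOfLe hVN).injective).exists_le_sylow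
  obtain ⟨c, hc⟩ := MulAction.exists_smul_eq N R T
  have himg : ∀ b ∈ h.hSub q, ∃ a, a ∈ h.hSub n ∧ ψ a = d * ((c : X) * (g * ψ b * g⁻¹) * (c : X)⁻¹) * d⁻¹ :=
    fun b hb => hinto _ ⟨c * ⟨_, hVN ⟨ψ b, mem_map_of_mem ψ hb, rfl⟩⟩ * c⁻¹, by
      rw [← hc]; exact ⟨_, hR (show (⟨_, hVN ⟨ψ b, mem_map_of_mem ψ hb, rfl⟩⟩ : N) ∈ V.subgroupOf N from
        ⟨ψ b, mem_map_of_mem ψ hb, rfl⟩), rfl⟩, rfl⟩
  obtain ⟨a₁, ha₁, e₁⟩ := himg _ (hbq _ (bR_facts 0).1)
  obtain ⟨a₂, ha₂, e₂⟩ := himg _ (hbq _ (aR_facts 1).1)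
  set k := d * (c : X) * g
  have e₁' : ψ a₁ = MulAut.conj k (ψ (bR 0)) := by
    rw [e₁]; show _ = k * ψ (bR 0) * k⁻¹; simp only [k]; group
  have e₂' : ψ a₂ = MulAut.conj k (ψ (aR 1)) := by
    rw [e₂]; show _ = k * ψ (aR 1) * k⁻¹; simp only [k]; group
  have hnc : a₁ * a₂ ≠ a₂ * a₁ := fun e => by
    have e' := congrArg ψ e
    rw [map_mul, map_mul, e₁', e₂'] at e'
    simp only [← map_mul] at e'
    exact bR_noncomm (h.frame.inj ((MulAut.conj k).injective e'))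
  have hinv : a₁ * a₁ = 1 ∧ a₂ * a₂ = 1 := by
    refine ⟨h.frame.inj ?_, h.frame.inj ?_⟩
    · rw [map_mul, e₁', ← map_mul, ← map_mul ψ, (bR_facts 0).2.2.1, map_one, map_one]
    · rw [map_mul, e₂', ← map_mul, ← map_mul ψ, eP_sq _ (aR_facts 1).2.1, map_one, map_one]
  have hm256 : Nat.card (h.hSub m) = 256 :=
    (card_filter_hP m _ fun a => h.mem_hSub).trans (square_z_outside m hm2 hm).1
  by_cases hnQ : qP n
  · -- the image of `H_m` is everything
    have hsub : Hm.map (MulAut.conj d).toMonoidHom ≤ (h.hSub n).map ψ := by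
      rintro _ ⟨x, hx, rfl⟩
      obtain ⟨a, ha, e⟩ := hinto x (hHT hx)
      exact ⟨a, ha, e⟩
    have hle : Nat.card (h.hSub n) ≤ 256 :=
      (card_filter_hP n _ fun a => h.mem_hSub).trans_le (square_z_inside n hnQ hn2)
    have heq := eq_of_le_of_card_ge hsub (by
      rw [card_map_of_injective (K := Hm) (f := (MulAut.conj d).toMonoidHom) (MulAut.conj d).injective, hHm,
        h.frame.card_map_eq, h.frame.card_map_eq, hm256]
      exact hle)
    have hpre : ∀ a ∈ h.hSub n, a * a = 1 → ∃ b, eP b ∧ ψ a = MulAut.conj d (ψ b) := fun a ha ha2 => by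
      obtain ⟨_, ⟨b, hb, rfl⟩, e⟩ := heq.ge (mem_map_of_mem ψ ha)
      have hb2 : b * b = 1 := h.frame.inj ((MulAut.conj d).injective (by
        rw [map_mul ψ, map_mul, map_one, map_one, show MulAut.conj d (ψ b) = ψ a from e, ← map_mul ψ, ha2, map_one]))
      obtain ⟨cd⟩ := b
      exact ⟨⟨cd⟩, (square_z_outside m hm2 hm).2 cd (h.mem_hSub.1 hb) hb2, e.symm⟩
    obtain ⟨b₁, hb₁, f₁⟩ := hpre a₁ ha₁ hinv.1
    obtain ⟨b₂, hb₂, f₂⟩ := hpre a₂ ha₂ hinv.2
    exact hnc (h.frame.inj (by rw [map_mul, map_mul, f₁, f₂]; simp only [← map_mul]; rw [eP_comm _ hb₁ _ hb₂]))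
  · obtain ⟨c₁⟩ := a₁
    obtain ⟨c₂⟩ := a₂
    exact hnc (eP_comm _ ((square_z_outside n hn2 hnQ).2 c₁ (h.mem_hSub.1 ha₁) hinv.1) _
      ((square_z_outside n hn2 hnQ).2 c₂ (h.mem_hSub.1 ha₂) hinv.2))

/-- `Q` is strongly closed. -/
theorem closed {q m : Mdl} (hq : qP q) {g : X} (hg : g * ψ q * g⁻¹ = ψ m) : qP m := by
  by_contra hm
  have hsq : ψ (m * m) = g * ψ (q * q) * g⁻¹ := by rw [map_mul, ← hg, map_mul]; group
  rcases qP_sq q hq with e | e
  · rw [e, map_one, mul_one, mul_inv_cancel, ← map_one ψ] at hsq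
    exact h.outside m q hm hq (h.frame.inj hsq) e (isConj_iff.2 ⟨g, hg⟩)
  · rw [e, h.z_conj] at hsq
    exact h.outside_four hq e (h.frame.inj hsq) hm hg

end ZSet

end Cfsg.Lib.UFiveType
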